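import Groth.Agent.Lib.GrSyz.Compare
import Groth.Agent.Lib.DMod.Homology
import Mathlib.CategoryTheory.Monoidal.Tor
import Mathlib.Algebra.Category.ModuleCat.Monoidal.Basic
import Mathlib.Algebra.Category.ModuleCat.Projective
import Mathlib.CategoryTheory.Monoidal.Preadditive
import Mathlib.LinearAlgebra.TensorProduct.Pi
import Mathlib.RingTheory.Length
import Mathlib.Algebra.Category.ModuleCat.Abelian
import Mathlib.CategoryTheory.Abelian.Projective.Resolution

/-!
# Tor with the residue field through a minimal resolution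
-/

universe u

noncomputable section

open CategoryTheory CategoryTheory.Limits GrSyz MvPolynomial
open scoped TensorProduct

namespace Groth.Agent.GrSyzLib

variable {k : Type u} [Field k] {σ : Type}

local notation "S" => MvPolynomial σ k

set_option quotPrecheck false in
local notation "𝔪" => HomogeneousIdeal.toIdeal (irrel (stdGr k σ))

theorem irrel_eq_ker : 𝔪 = RingHom.ker (constantCoeff (σ := σ) (R := k)) := by
  refine le_antisymm (fun p hp => constantCoeff_eq_zero_of_mem_irrel hp) fun p hp => ?_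
  rw [p.as_sum]
  refine Submodule.sum_mem _ fun d hd => ?_
  have hd0 : d ≠ 0 := by
    rintro rfl
    exact (mem_support_iff.1 hd) hp
  refine mem_irrel_of_pos (n := (d.degree : ℤ)) ?_ ((mem_stdGr_iff k σ _ _).2
    (isWeightedHomogeneous_monomial _ _ _ (weight_one d)))
  have : d.degree ≠ 0 := fun h => hd0 ((Finsupp.degree_eq_zero_iff d).1 h)
  omega

theorem irrel_isMaximal : (𝔪).IsMaximal := by
  rw [irrel_eq_ker]
  exact RingHom.ker_isMaximal_of_surjective _ fun c => ⟨C c, constantCoeff_C _ c⟩

variable {M : Type u} [AddCommGroup M] [Module k M] [Module (MvPolynomial σ k) M] {ℳ : ℤ → Submodule k M}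
  [DirectSum.Decomposition ℳ] [SetLike.GradedSMul (stdGr k σ) ℳ] (F : FreeRes (stdGr k σ) ℳ)

/-- The complex of a resolution. -/
def toComplex : ChainComplex (ModuleCat.{u} S) ℕ :=
  ChainComplex.of (fun i => ModuleCat.of S (Fin (F.rk i) → S)) (fun i => ModuleCat.ofHom (F.dLin i))
    (fun i => ModuleCat.hom_ext (LinearMap.ext fun v => dLin_dLin F i v))

theorem toComplex_d (i : ℕ) : (toComplex F).d (i + 1) i = ModuleCat.ofHom (F.dLin i) :=
  (ChainComplex.of_d (fun i => ModuleCat.of S (Fin (F.rk i) → S)) (fun i => ModuleCat.ofHom (F.dLin i)) i :)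

/-- The augmentation. -/
def toSingle : toComplex F ⟶ (ChainComplex.single₀ (ModuleCat.{u} S)).obj (ModuleCat.of S M) :=
  ((toComplex F).toSingle₀Equiv _).symm ⟨ModuleCat.ofHom F.augLin, by
    rw [toComplex_d]
    exact ModuleCat.hom_ext (LinearMap.ext fun v => augLin_dLin F v)⟩

theorem toSingle_f_zero : (toSingle F).f 0 = ModuleCat.ofHom F.augLin :=
  ChainComplex.toSingle₀Equiv_symm_apply_f_zero _ _

theorem quasiIso_toSingle : QuasiIso (toSingle F) := by
  rw [quasiIso_iff]
  intro i
  cases i with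
  | zero =>
    rw [quasiIsoAt_iff_isIso_homologyMap, ConcreteCategory.isIso_iff_bijective]
    refine DMod.homologyMap_bijective_of _ (ChainComplex.prev ℕ 0) ChainComplex.next_nat_zero ?_ ?_
    · intro x _
      obtain ⟨w, hw⟩ := F.aug_surjective x
      refine ⟨w, 0, by simp, ?_⟩
      rw [toSingle_f_zero, map_zero, add_zero]
      exact hw
    · intro w y _ hy
      rw [toSingle_f_zero] at hy
      have hw : F.augLin w = 0 := by
        refine hy.symm.trans ?_
        simp only [HomologicalComplex.single_obj_d]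
        rfl
      obtain ⟨v, hv⟩ : w ∈ LinearMap.range (F.dLin 0) := ker_augLin F ▸ hw
      exact ⟨v, by rw [toComplex_d]; exact hv⟩
  | succ i =>
    rw [quasiIsoAt_iff_exactAt' _ _ (ChainComplex.exactAt_succ_single_obj ..), DMod.exactAt_iff_subsingleton,
      DMod.subsingleton_homology_iff (i := i + 2) (k := i) _ (ChainComplex.prev ℕ (i + 1)) (ChainComplex.next_nat_succ i)]
    intro x hx
    rw [toComplex_d] at hx
    obtain ⟨v, hv⟩ : x ∈ LinearMap.range (F.dLin (i + 1)) := ker_dLin F i ▸ hx
    exact ⟨v, by rw [toComplex_d]; exact hv⟩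

/-- The resolution as a projective resolution. -/
def projRes : ProjectiveResolution (ModuleCat.of S M) where
  complex := toComplex F
  projective i := (IsProjective.iff_projective (R := S) (Fin (F.rk i) → S)).1 inferInstance
  π := toSingle F
  quasiIso := quasiIso_toSingle F

variable {F}

theorem lTensor_dLin_eq_zero (hF : F.IsMinimal 𝔪) (i : ℕ) :
    (F.dLin i).lTensor (S ⧸ 𝔪) = 0 := by
  classical
  refine TensorProduct.ext' fun q v => ?_
  obtain ⟨q, rfl⟩ := Ideal.Quotient.mk_surjective q
  rw [LinearMap.lTensor_tmul, LinearMap.zero_apply, pi_eq_sum_univ' (F.dLin i v), TensorProduct.tmul_sum]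
  refine Finset.sum_eq_zero fun b _ => ?_
  rw [← TensorProduct.smul_tmul, Algebra.smul_def, Ideal.Quotient.algebraMap_eq, ← map_mul,
    Ideal.Quotient.eq_zero_iff_mem.2 (Ideal.mul_mem_right _ _ (dLin_apply_mem hF i v b)), TensorProduct.zero_tmul]

/-- Betti numbers are Tor dimensions. -/
theorem length_tor (hF : F.IsMinimal 𝔪) (i : ℕ) :
    Module.length S (((CategoryTheory.Tor (ModuleCat.{u} S) i).obj (ModuleCat.of S (S ⧸ 𝔪))).obj (ModuleCat.of S M)) =
      (F.rk i : ℕ∞) := by
  let T := (MonoidalCategory.tensoringLeft (ModuleCat.{u} S)).obj (ModuleCat.of S (S ⧸ 𝔪))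
  let K := (T.mapHomologicalComplex (ComplexShape.down ℕ)).obj (toComplex F)
  have hd : ∀ a b, K.d a b = 0 := fun a b => by
    by_cases hab : (ComplexShape.down ℕ).Rel a b
    · obtain rfl : b + 1 = a := hab
      refine ModuleCat.hom_ext ?_
      change ((toComplex F).d (b + 1) b).hom.lTensor (S ⧸ 𝔪) = 0
      rw [toComplex_d]
      exact lTensor_dLin_eq_zero hF b
    · exact K.shape a b hab
  have e1 : ((CategoryTheory.Tor (ModuleCat.{u} S) i).obj (ModuleCat.of S (S ⧸ 𝔪))).obj (ModuleCat.of S M) ≅
      K.homology i := (projRes F).isoLeftDerivedObj T i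
  have e2 : K.cycles i ≅ K.X i := K.iCyclesIso i ((ComplexShape.down ℕ).next i) rfl (hd _ _)
  have := K.isIso_homologyπ ((ComplexShape.down ℕ).prev i) i rfl (hd _ _)
  rw [(e1 ≪≫ (asIso (K.homologyπ i)).symm ≪≫ e2).toLinearEquiv.length_eq]
  change Module.length S ((S ⧸ 𝔪) ⊗[S] (Fin (F.rk i) → S)) = _
  rw [(TensorProduct.piScalarRight S S (S ⧸ 𝔪) (Fin (F.rk i))).length_eq, Module.length_pi]
  have : IsSimpleModule S (S ⧸ 𝔪) := isSimpleModule_iff_isCoatom.2 irrel_isMaximal.out
  simp

end Groth.Agent.GrSyzLib
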