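import Groth.Agent.Lib.GrSyz.Free
import Mathlib.RingTheory.Finiteness.Prod
import Mathlib.LinearAlgebra.FreeModule.Finite.Basic
import Mathlib.RingTheory.PrincipalIdealDomain

/-!
# Existence of minimal graded free resolutions
-/

universe u

noncomputable section

namespace Groth.Agent.GrSyzLib

open GrSyz MvPolynomial DirectSum

variable {k : Type u} [Field k] {σ : Type} [Finite σ]

local notation "S" => MvPolynomial σ k

variable (k σ) in
/-- A homogeneous submodule of a graded free module. -/
structure Stage where
  /-- rank -/
  n : ℕ
  /-- degrees -/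
  a : Fin n → ℤ
  /-- the submodule -/
  P : Submodule (MvPolynomial σ k) (Fin n → MvPolynomial σ k)
  hom : IsHom (freeGr a) P

variable {M : Type u} [AddCommGroup M] [Module k M] [Module (MvPolynomial σ k) M]
  {ℳ : ℤ → Submodule k M} [Decomposition ℳ] [SetLike.GradedSMul (stdGr k σ) ℳ]

/-- The stage given by the relations among homogeneous elements. -/
def relStage {n : ℕ} (e : Fin n → ℤ) (g : Fin n → M) (hg : ∀ b, g b ∈ ℳ (e b)) : Stage k σ where
  n := n
  a := e
  P := LinearMap.ker (Fintype.linearCombination (MvPolynomial σ k) g)
  hom := isHom_ker fun _ _ => linearCombination_mem hg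

theorem Stage.exists_gens (s : Stage k σ) :
    ∃ (n : ℕ) (e : Fin n → ℤ) (g : Fin n → (Fin s.n → S)), (∀ b, g b ∈ freeGr s.a (e b)) ∧
      Submodule.span S (Set.range g) = s.P ∧ ∀ b, g b ∉ Submodule.span S (g '' {b' | b' ≠ b}) :=
  exists_irredundant_generators s.hom (IsNoetherian.noetherian _)

/-- Number of generators. -/
def Stage.rank (s : Stage k σ) : ℕ := s.exists_gens.choose

/-- Degrees of generators. -/
def Stage.degs (s : Stage k σ) : Fin s.rank → ℤ := s.exists_gens.choose_spec.choose

/-- Generators. -/
def Stage.gens (s : Stage k σ) : Fin s.rank → (Fin s.n → S) := s.exists_gens.choose_spec.choose_spec.choose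

theorem Stage.gens_spec (s : Stage k σ) :
    (∀ b, s.gens b ∈ freeGr s.a (s.degs b)) ∧ Submodule.span S (Set.range s.gens) = s.P ∧
      ∀ b, s.gens b ∉ Submodule.span S (s.gens '' {b' | b' ≠ b}) :=
  s.exists_gens.choose_spec.choose_spec.choose_spec

/-- The next syzygy stage. -/
def Stage.next (s : Stage k σ) : Stage k σ := relStage s.degs s.gens s.gens_spec.1

/-- Iterated syzygies. -/
def stages (s : Stage k σ) : ℕ → Stage k σ
  | 0 => s
  | i + 1 => (stages s i).next

omit [Finite σ] in
theorem mulVecLin_of {m n : ℕ} (g : Fin n → (Fin m → S)) :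
    Matrix.mulVecLin (Matrix.of fun x b => g b x) = Fintype.linearCombination S g := by
  refine LinearMap.ext fun v => funext fun x => ?_
  simp [Fintype.linearCombination_apply, Matrix.mulVec, dotProduct, mul_comm]

/-- Every finitely generated graded module has a minimal graded free resolution. -/
theorem exists_freeRes_isMinimal [IsScalarTower k S M] [Module.Finite S M] :
    ∃ F : FreeRes (stdGr k σ) ℳ, F.IsMinimal (irrel (stdGr k σ)).toIdeal := by
  obtain ⟨n, e, g, hg, hspan, hirr⟩ :=
    exists_irredundant_generators (isHom_top : IsHom ℳ (⊤ : Submodule S M)) Module.Finite.fg_top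
  let s : Stage k σ := relStage (ℳ := ℳ) e g hg
  let F : FreeRes (stdGr k σ) ℳ :=
    { rk := fun i => (stages s i).n
      deg := fun i => (stages s i).a
      d := fun i => Matrix.of fun x b => (stages s i).gens b x
      aug := g
      d_mem := fun i x b => (stages s i).gens_spec.1 b x
      aug_mem := hg
      aug_surjective := by
        rw [← LinearMap.range_eq_top, Fintype.range_linearCombination]
        exact hspan
      exact_zero := by
        rw [mulVecLin_of, Fintype.range_linearCombination]
        exact ((stages s 0).gens_spec.2.1).symm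
      exact_succ := fun i => by
        rw [mulVecLin_of, mulVecLin_of, Fintype.range_linearCombination]
        exact ((stages s (i + 1)).gens_spec.2.1).symm }
  exact ⟨F, (isMinimal_iff_irredundant F).2 ⟨hirr, fun i => (stages s i).gens_spec.2.2⟩⟩

end Groth.Agent.GrSyzLib
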