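import Groth.Agent.Lib.GrSyz.Free
import Mathlib.LinearAlgebra.Matrix.ToLin
import Mathlib.LinearAlgebra.Dimension.Constructions

/-!
# Comparison of graded free resolutions
-/

universe u

noncomputable section

namespace Groth.Agent.GrSyzLib

open GrSyz MvPolynomial DirectSum

variable {k : Type u} [Field k] {σ : Type}

local notation "S" => MvPolynomial σ k

set_option quotPrecheck false in
local notation "𝔪" => HomogeneousIdeal.toIdeal (irrel (stdGr k σ))

/-- Any linear map out of a free module lifts through a map whose range contains its range. -/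
theorem exists_lift {R X Y : Type*} [CommRing R] [AddCommGroup X] [Module R X] [AddCommGroup Y] [Module R Y] {n : ℕ}
    (p : X →ₗ[R] Y) (f : (Fin n → R) →ₗ[R] Y) (h : ∀ b, f (Pi.single b 1) ∈ LinearMap.range p) :
    ∃ l : (Fin n → R) →ₗ[R] X, p ∘ₗ l = f := by
  classical
  choose x hx using h
  refine ⟨Fintype.linearCombination R x, LinearMap.pi_ext' fun b => LinearMap.ext_ring ?_⟩
  simp [Fintype.linearCombination_apply_single, hx]

variable {M : Type u} [AddCommGroup M] [Module k M] [Module (MvPolynomial σ k) M] {ℳ : ℤ → Submodule k M}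
  [Decomposition ℳ] [SetLike.GradedSMul (stdGr k σ) ℳ]

/-- A map out of a graded free module respecting degrees lifts to one respecting degrees. -/
theorem exists_graded_lift {n m : ℕ} {a : Fin n → ℤ} {c : Fin m → ℤ} (p : (Fin n → S) →ₗ[S] M)
    (hp : ∀ b, p (Pi.single b 1) ∈ ℳ (a b)) (f : (Fin m → S) →ₗ[S] M)
    (hf : ∀ b, f (Pi.single b 1) ∈ ℳ (c b)) (h : LinearMap.range f ≤ LinearMap.range p) :
    ∃ l : (Fin m → S) →ₗ[S] (Fin n → S), (∀ b, l (Pi.single b 1) ∈ freeGr a (c b)) ∧ p ∘ₗ l = f := by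
  classical
  have : ∀ b, ∃ x ∈ freeGr a (c b), p x = f (Pi.single b 1) := fun b => by
    obtain ⟨x, hx⟩ := h (LinearMap.mem_range_self f (Pi.single b 1))
    refine ⟨decompose (freeGr a) x (c b), SetLike.coe_mem _, ?_⟩
    rw [← decompose_map (𝒩 := ℳ) p (fun _ _ => map_mem_of_basis hp), hx, decompose_of_mem_same _ (hf b)]
  choose x hx hpx using this
  refine ⟨Fintype.linearCombination S x, fun b => ?_, LinearMap.pi_ext' fun b => LinearMap.ext_ring ?_⟩
  · rw [Fintype.linearCombination_apply_single, one_smul]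
    exact hx b
  · simp [Fintype.linearCombination_apply_single, hpx]

variable (F F' : FreeRes (stdGr k σ) ℳ)

theorem dLin_basis_mem (i : ℕ) (b : Fin (F.rk (i + 1))) :
    F.dLin i (Pi.single b 1) ∈ freeGr (F.deg i) (F.deg (i + 1) b) := by
  rw [dLin_single]
  exact fun x => F.d_mem i x b

theorem augLin_basis_mem (b : Fin (F.rk 0)) : F.augLin (Pi.single b 1) ∈ ℳ (F.deg 0 b) := by
  rw [augLin_single]
  exact F.aug_mem b

theorem dLin_dLin (i : ℕ) (v) : F.dLin i (F.dLin (i + 1) v) = 0 :=
  LinearMap.mem_ker.1 ((ker_dLin F i).symm ▸ LinearMap.mem_range_self _ v)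

theorem augLin_dLin (v) : F.augLin (F.dLin 0 v) = 0 :=
  LinearMap.mem_ker.1 ((ker_augLin F).symm ▸ LinearMap.mem_range_self _ v)

/-- One step of a comparison map. -/
structure Step (i : ℕ) where
  /-- the map -/
  f : (Fin (F.rk i) → MvPolynomial σ k) →ₗ[MvPolynomial σ k] (Fin (F'.rk i) → MvPolynomial σ k)
  graded : ∀ b, f (Pi.single b 1) ∈ freeGr (F'.deg i) (F.deg i b)
  cond : LinearMap.range (f ∘ₗ F.dLin i) ≤ LinearMap.range (F'.dLin i)

theorem Step.exists_zero : ∃ s : Step F F' 0, F'.augLin ∘ₗ s.f = F.augLin := by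
  obtain ⟨l, hl, hl'⟩ := exists_graded_lift F'.augLin (augLin_basis_mem F') F.augLin (augLin_basis_mem F)
    (by rw [LinearMap.range_eq_top.2 F'.aug_surjective]; exact le_top)
  refine ⟨⟨l, hl, ?_⟩, hl'⟩
  rintro _ ⟨v, rfl⟩
  rw [← ker_augLin, LinearMap.mem_ker, LinearMap.comp_apply, ← LinearMap.comp_apply, hl', augLin_dLin]

variable {F F'}

theorem Step.exists_succ {i : ℕ} (s : Step F F' i) :
    ∃ t : Step F F' (i + 1), F'.dLin i ∘ₗ t.f = s.f ∘ₗ F.dLin i := by
  obtain ⟨l, hl, hl'⟩ := exists_graded_lift (ℳ := freeGr (F'.deg i)) (F'.dLin i) (dLin_basis_mem F' i)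
    (s.f ∘ₗ F.dLin i) (fun b => map_mem_of_basis s.graded (dLin_basis_mem F i b)) s.cond
  refine ⟨⟨l, hl, ?_⟩, hl'⟩
  rintro _ ⟨v, rfl⟩
  rw [← ker_dLin, LinearMap.mem_ker, LinearMap.comp_apply, ← LinearMap.comp_apply, hl', LinearMap.comp_apply,
    dLin_dLin, map_zero]

variable (F F')

/-- A comparison map. -/
def steps : (i : ℕ) → Step F F' i
  | 0 => (Step.exists_zero F F').choose
  | i + 1 => (Step.exists_succ (steps i)).choose

/-- A comparison map of resolutions. -/
def cmpMap (i : ℕ) : (Fin (F.rk i) → S) →ₗ[S] (Fin (F'.rk i) → S) := (steps F F' i).f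

theorem augLin_cmpMap (v) : F'.augLin (cmpMap F F' 0 v) = F.augLin v :=
  LinearMap.congr_fun (Step.exists_zero F F').choose_spec v

theorem dLin_cmpMap (i : ℕ) (v) : F'.dLin i (cmpMap F F' (i + 1) v) = cmpMap F F' i (F.dLin i v) :=
  LinearMap.congr_fun (Step.exists_succ (steps F F' i)).choose_spec v

variable {F F'}

theorem dLin_apply_mem (hF : F.IsMinimal 𝔪) (i : ℕ) (v) (x) : F.dLin i v x ∈ 𝔪 := by
  rw [show F.dLin i v x = ∑ c, F.d i x c * v c from rfl]
  exact Submodule.sum_mem _ fun c _ => Ideal.mul_mem_right _ _ (hF i x c)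

theorem linearMap_apply_mem {n m : ℕ} (l : (Fin n → S) →ₗ[S] (Fin m → S)) {v : Fin n → S}
    (hv : ∀ b, v b ∈ 𝔪) (x : Fin m) : l v x ∈ 𝔪 := by
  classical
  rw [pi_eq_sum_univ' v, map_sum, Finset.sum_apply]
  refine Submodule.sum_mem _ fun b _ => ?_
  rw [map_smul, Pi.smul_apply, smul_eq_mul]
  exact Ideal.mul_mem_right _ _ (hv b)

/-- A chain endomorphism over zero is zero modulo the irrelevant ideal in a minimal resolution. -/
theorem endo_mem (hF : F.IsMinimal 𝔪) (e : ∀ i, (Fin (F.rk i) → S) →ₗ[S] (Fin (F.rk i) → S))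
    (h0 : ∀ v, F.augLin (e 0 v) = 0) (hd : ∀ i v, F.dLin i (e (i + 1) v) = e i (F.dLin i v))
    (i : ℕ) (v) (x) : e i v x ∈ 𝔪 := by
  have key : ∀ i, ∃ u : (Fin (F.rk i) → S) →ₗ[S] (Fin (F.rk i) → S), LinearMap.range u ≤ LinearMap.range (F.dLin i) ∧
      (e i - u) ∘ₗ F.dLin i = 0 ∧ ∀ v x, (e i - u) v x ∈ 𝔪 := by
    intro i
    induction i with
    | zero =>
      refine ⟨e 0, ?_, by simp, fun v x => by simp⟩
      rintro _ ⟨v, rfl⟩
      rw [← ker_augLin]
      exact h0 v
    | succ i ih =>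
      obtain ⟨u, hu, hud, hum⟩ := ih
      obtain ⟨h, hh⟩ := exists_lift (F.dLin i) u fun b => hu (LinearMap.mem_range_self _ _)
      refine ⟨e (i + 1) - h ∘ₗ F.dLin i, ?_, ?_, fun v x => ?_⟩
      · rintro _ ⟨v, rfl⟩
        rw [← ker_dLin, LinearMap.mem_ker, LinearMap.sub_apply, map_sub, hd, LinearMap.comp_apply,
          ← LinearMap.comp_apply (f := F.dLin i), hh]
        have := LinearMap.congr_fun hud v
        simpa [LinearMap.sub_apply] using this
      · rw [sub_sub_cancel]
        refine LinearMap.ext fun v => ?_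
        rw [LinearMap.comp_apply, LinearMap.comp_apply, dLin_dLin, map_zero, LinearMap.zero_apply]
      · rw [sub_sub_cancel, LinearMap.comp_apply]
        exact linearMap_apply_mem h (dLin_apply_mem hF i v) x
  obtain ⟨u, hu, -, hum⟩ := key i
  obtain ⟨w, hw⟩ := hu (LinearMap.mem_range_self u v)
  have := Submodule.add_mem _ (hum v x) (hw ▸ dLin_apply_mem hF i w x)
  simpa using this

variable (F F') in
/-- The constant part of a comparison map. -/
def constMat (i : ℕ) : Matrix (Fin (F'.rk i)) (Fin (F.rk i)) k :=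
  Matrix.of fun b x => constantCoeff (cmpMap F F' i (Pi.single x 1) b)

theorem constMat_eq_zero {i : ℕ} {b : Fin (F'.rk i)} {x : Fin (F.rk i)} (h : F'.deg i b ≠ F.deg i x) :
    constMat F F' i b x = 0 :=
  constantCoeff_eq_zero (sub_ne_zero.2 (Ne.symm h)) ((steps F F' i).graded x b)

theorem constMat_mul (hF : F.IsMinimal 𝔪) (i : ℕ) : constMat F' F i * constMat F F' i = 1 := by
  classical
  ext c x
  have h := endo_mem hF (fun i => cmpMap F' F i ∘ₗ cmpMap F F' i - LinearMap.id)
    (fun v => by simp [augLin_cmpMap]) (fun i v => by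
      rw [LinearMap.sub_apply, LinearMap.sub_apply, map_sub, LinearMap.comp_apply, LinearMap.comp_apply,
        dLin_cmpMap, dLin_cmpMap]
      rfl) i (Pi.single x 1) c
  rw [LinearMap.sub_apply, LinearMap.comp_apply, LinearMap.id_apply, Pi.sub_apply,
    pi_eq_sum_univ' (cmpMap F F' i (Pi.single x 1)), map_sum, Finset.sum_apply] at h
  have := constantCoeff_eq_zero_of_mem_irrel h
  rw [map_sub, map_sum, sub_eq_zero] at this
  rw [Matrix.mul_apply, Matrix.one_apply]
  refine Eq.trans (Finset.sum_congr rfl fun b _ => ?_) (this.trans ?_)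
  · rw [map_smul, Pi.smul_apply, smul_eq_mul, map_mul]
    exact mul_comm _ _
  · rw [Pi.single_apply]
    split_ifs <;> simp

theorem betti_le (hF : F.IsMinimal 𝔪) (i : ℕ) (j : ℤ) : F.betti i j ≤ F'.betti i j := by
  classical
  unfold FreeRes.betti
  rw [← Fintype.card_subtype, ← Fintype.card_subtype]
  let A : Matrix {b // F'.deg i b = j} {x // F.deg i x = j} k := (constMat F F' i).submatrix Subtype.val Subtype.val
  let B : Matrix {x // F.deg i x = j} {b // F'.deg i b = j} k := (constMat F' F i).submatrix Subtype.val Subtype.val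
  have hBA : B * A = 1 := by
    ext c x
    rw [Matrix.one_apply, Matrix.mul_apply]
    calc ∑ b, B c b * A b x = ∑ b : {b // F'.deg i b = j}, constMat F' F i c.1 b.1 * constMat F F' i b.1 x.1 := rfl
      _ = ∑ b, constMat F' F i c.1 b * constMat F F' i b x.1 := by
          rw [← Finset.sum_subtype (Finset.univ.filter fun b => F'.deg i b = j) (by simp)
            (fun b => constMat F' F i c.1 b * constMat F F' i b x.1)]
          refine Finset.sum_filter_of_ne fun b _ hne => ?_
          by_contra hb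
          exact hne (by rw [constMat_eq_zero (F := F) (F' := F') (by rw [x.2]; exact hb), mul_zero])
      _ = if c = x then 1 else 0 := by
          rw [← Matrix.mul_apply, constMat_mul hF, Matrix.one_apply]
          simp [Subtype.ext_iff]
  have hinj : Function.Injective (Matrix.mulVecLin A) := by
    refine Function.LeftInverse.injective (g := Matrix.mulVecLin B) fun v => ?_
    rw [Matrix.mulVecLin_apply, Matrix.mulVecLin_apply, Matrix.mulVec_mulVec, hBA, Matrix.one_mulVec]
  simpa [Module.finrank_fintype_fun_eq_card] using LinearMap.finrank_le_finrank_of_injective hinj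

/-- Minimal graded free resolutions have the same graded Betti numbers. -/
theorem betti_eq (hF : F.IsMinimal 𝔪) (hF' : F'.IsMinimal 𝔪) (i : ℕ) (j : ℤ) : F.betti i j = F'.betti i j :=
  le_antisymm (betti_le hF i j) (betti_le hF' i j)

theorem exists_deg_eq (hF : F.IsMinimal 𝔪) (i : ℕ) (b : Fin (F.rk i)) : ∃ b', F'.deg i b' = F.deg i b := by
  have := betti_le (F' := F') hF i (F.deg i b)
  have hpos : 0 < F'.betti i (F.deg i b) :=
    lt_of_lt_of_le (Finset.card_pos.2 ⟨b, by simp⟩) this
  obtain ⟨b', hb'⟩ := Finset.card_pos.1 hpos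
  exact ⟨b', (Finset.mem_filter.1 hb').2⟩

end Groth.Agent.GrSyzLib
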