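import Groth.Agent.Lib.GrSyz.Exist
import Groth.Agent.Lib.GrSyz.Compare
import Groth.Agent.Lib.RegLoc.GlobalDim
import Mathlib.RingTheory.Nakayama
import Mathlib.RingTheory.RegularLocalRing.Polynomial
import Mathlib.RingTheory.KrullDimension.Polynomial
import Mathlib.RingTheory.LocalProperties.ProjectiveDimension

/-!
# Length of a minimal resolution and projective dimension
-/

universe u

noncomputable section

namespace Groth.Agent.GrSyzLib

open GrSyz MvPolynomial Groth.Agent.RegLoc

variable {k : Type u} [Field k] {σ : Type}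

local notation "S" => MvPolynomial σ k

set_option quotPrecheck false in
local notation "𝔪" => HomogeneousIdeal.toIdeal (irrel (stdGr k σ))

variable {M : Type u} [AddCommGroup M] [Module k M] [Module (MvPolynomial σ k) M] {ℳ : ℤ → Submodule k M}
  [DirectSum.Decomposition ℳ] [SetLike.GradedSMul (stdGr k σ) ℳ] {F : FreeRes (stdGr k σ) ℳ}

theorem range_dLin_eq_bot_of_summand (hF : F.IsMinimal 𝔪) (i : ℕ) {Y : Type u} [AddCommGroup Y] [Module S Y]
    [Module.Projective S Y] (f : (Fin (F.rk i) → S) →ₗ[S] Y) (hf : Function.Surjective f)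
    (hker : LinearMap.ker f = LinearMap.range (F.dLin i)) : LinearMap.range (F.dLin i) = ⊥ := by
  classical
  obtain ⟨s, hs⟩ := Module.projective_lifting_property f LinearMap.id hf
  let π : (Fin (F.rk i) → S) →ₗ[S] (Fin (F.rk i) → S) := LinearMap.id - s ∘ₗ f
  have hπ : ∀ v, π v ∈ LinearMap.range (F.dLin i) := fun v => by
    rw [← hker, LinearMap.mem_ker]
    simp [π, ← LinearMap.comp_apply (f := f), hs]
  have hle : LinearMap.range (F.dLin i) ≤ 𝔪 • LinearMap.range (F.dLin i) := fun x hx => by
    have hxx : π x = x := by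
      simp [π, LinearMap.mem_ker.1 (hker ▸ hx : x ∈ LinearMap.ker f)]
    rw [← hxx, pi_eq_sum_univ' x, map_sum]
    refine Submodule.sum_mem _ fun b _ => ?_
    rw [map_smul]
    obtain ⟨v, rfl⟩ := hx
    exact Submodule.smul_mem_smul (dLin_apply_mem hF i v b) (hπ _)
  obtain ⟨r, hr, hr'⟩ := Submodule.exists_sub_one_mem_and_smul_eq_zero_of_fg_of_le_smul 𝔪 _
    (by rw [LinearMap.range_eq_map]; exact (Module.Finite.fg_top).map _) hle
  have hr0 : r ≠ 0 := by
    rintro rfl
    exact one_notMem_irrel (k := k) (σ := σ) (by simpa using Submodule.neg_mem _ hr)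
  exact (Submodule.eq_bot_iff _).2 fun x hx => (smul_eq_zero.1 (hr' x hx)).resolve_left hr0

theorem rk_eq_zero_of_range_eq_bot (hF : F.IsMinimal 𝔪) (i : ℕ) (h : LinearMap.range (F.dLin i) = ⊥) :
    F.rk (i + 1) = 0 := by
  by_contra hne
  have b : Fin (F.rk (i + 1)) := ⟨0, Nat.pos_of_ne_zero hne⟩
  refine ((isMinimal_iff_irredundant F).1 hF).2 i b ?_
  have : F.dLin i (Pi.single b 1) = 0 := (Submodule.mem_bot S).1 (h ▸ LinearMap.mem_range_self _ _)
  rw [← dLin_single, this]
  exact Submodule.zero_mem _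

theorem hasLengthLE_of_rk (hF : F.IsMinimal 𝔪) (n : ℕ) (h : F.rk (n + 1) = 0) : F.HasLengthLE n := by
  intro i hi
  induction i, hi using Nat.le_induction with
  | base => exact h
  | succ i hi ih =>
    by_contra hne
    obtain ⟨a, -⟩ := exists_deg_lt hF i ⟨0, Nat.pos_of_ne_zero hne⟩
    exact (Fin.cast ih a).elim0

theorem range_eq_bot_of_rk {i : ℕ} (h : F.rk (i + 1) = 0) : LinearMap.range (F.dLin i) = ⊥ := by
  rw [eq_bot_iff]
  rintro _ ⟨v, rfl⟩
  have : IsEmpty (Fin (F.rk (i + 1))) := by rw [h]; infer_instance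
  rw [Subsingleton.elim v 0, map_zero]
  exact Submodule.zero_mem _

theorem pd_range_succ_iff (i n : ℕ) :
    PD S (LinearMap.range (F.dLin i)) (n + 1) ↔ PD S (LinearMap.range (F.dLin (i + 1))) n :=
  (pd_succ_iff (F.dLin i).rangeRestrict (LinearMap.surjective_rangeRestrict _)).trans
    (pd_congr (LinearEquiv.ofEq _ _ ((LinearMap.ker_rangeRestrict _).trans (ker_dLin F i))))

theorem pd_iff_projective_range (n : ℕ) :
    PD S M (n + 1) ↔ Module.Projective S (LinearMap.range (F.dLin n)) := by
  have h0 : PD S M (n + 1) ↔ PD S (LinearMap.range (F.dLin 0)) n :=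
    (pd_succ_iff F.augLin F.aug_surjective).trans (pd_congr (LinearEquiv.ofEq _ _ (ker_augLin F)))
  have : ∀ j i, PD S (LinearMap.range (F.dLin i)) j ↔ PD S (LinearMap.range (F.dLin (i + j))) 0 := by
    intro j
    induction j with
    | zero => intro i; exact Iff.rfl
    | succ j ih => intro i; rw [pd_range_succ_iff, ih, show i + 1 + j = i + (j + 1) by omega]
  rw [h0, this n 0, zero_add, pd_zero_iff]

/-- A minimal resolution has length the projective dimension. -/
theorem hasLengthLE_iff_pd (hF : F.IsMinimal 𝔪) (n : ℕ) : F.HasLengthLE n ↔ PD S M n := by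
  cases n with
  | zero =>
    rw [pd_zero_iff]
    refine ⟨fun h => ?_, fun h => hasLengthLE_of_rk hF 0 (rk_eq_zero_of_range_eq_bot hF 0 ?_)⟩
    · have hker : LinearMap.ker F.augLin = ⊥ := (ker_augLin F).trans (range_eq_bot_of_rk (h 1 Nat.one_pos))
      exact Module.Projective.of_equiv (LinearEquiv.ofBijective F.augLin
        ⟨LinearMap.ker_eq_bot.1 hker, F.aug_surjective⟩)
    · exact range_dLin_eq_bot_of_summand hF 0 F.augLin F.aug_surjective (ker_augLin F)
  | succ n =>
    rw [pd_iff_projective_range (F := F)]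
    refine ⟨fun h => ?_, fun h => hasLengthLE_of_rk hF (n + 1) (rk_eq_zero_of_range_eq_bot hF (n + 1) ?_)⟩
    · have hker : LinearMap.ker (F.dLin n) = ⊥ :=
        (ker_dLin F n).trans (range_eq_bot_of_rk (h (n + 2) (Nat.lt_succ_self _)))
      exact Module.Projective.of_equiv (LinearEquiv.ofInjective (F.dLin n) (LinearMap.ker_eq_bot.1 hker))
    · exact range_dLin_eq_bot_of_summand hF (n + 1) (F.dLin n).rangeRestrict
        (LinearMap.surjective_rangeRestrict _) ((LinearMap.ker_rangeRestrict _).trans (ker_dLin F n))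

/-- Hilbert's syzygy theorem, homological form. -/
theorem pd_polynomial (d : ℕ) (N : Type u) [AddCommGroup N] [Module (MvPolynomial (Fin d) k) N]
    [Module.Finite (MvPolynomial (Fin d) k) N] : PD (MvPolynomial (Fin d) k) N d := by
  refine (ModuleCat.hasProjectiveDimensionLE_iff_forall_maximalSpectrum d (ModuleCat.of _ N)).2 fun m => ?_
  have hdim : ringKrullDim (MvPolynomial (Fin d) k) = (d : WithBot ℕ∞) := by
    rw [MvPolynomial.ringKrullDim_of_isNoetherianRing, ringKrullDim_eq_zero_of_field]
    simp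
  let A := Localization.AtPrime m.asIdeal
  have h1 : (IsLocalRing.maximalIdeal A).spanFinrank ≤ d := by
    have e : ((IsLocalRing.maximalIdeal A).spanFinrank : WithBot ℕ∞) = ringKrullDim A :=
      IsRegularLocalRing.spanFinrank_maximalIdeal
    have e2 : ringKrullDim A ≤ (d : WithBot ℕ∞) := by
      rw [IsLocalization.AtPrime.ringKrullDim_eq_height m.asIdeal A, ← hdim]
      exact Ideal.height_le_ringKrullDim_of_ne_top Ideal.IsPrime.ne_top'
    rw [← e] at e2
    exact_mod_cast e2
  have := hasProjectiveDimensionLT_of_regular (R := A) rfl ((ModuleCat.of _ N).localizedModule m.asIdeal.primeCompl)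
  exact CategoryTheory.hasProjectiveDimensionLT_of_ge _ ((IsLocalRing.maximalIdeal A).spanFinrank + 1) (d + 1) (by omega)

end Groth.Agent.GrSyzLib
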