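import Groth.Agent.Lib.GrSyz.Compare
import Mathlib.Order.ConditionallyCompleteLattice.Basic

/-!
# Regularity through any minimal resolution
-/

universe u

noncomputable section

namespace Groth.Agent.GrSyzLib

open GrSyz

variable {k : Type u} [Field k] {σ : Type} {M : Type u} [AddCommGroup M] [Module k M]
  [Module (MvPolynomial σ k) M] {ℳ : ℤ → Submodule k M}
  [DirectSum.Decomposition ℳ] [SetLike.GradedSMul (stdGr k σ) ℳ] {F : FreeRes (stdGr k σ) ℳ}

theorem isRegLE_iff (hF : F.IsMinimal (irrel (stdGr k σ)).toIdeal) (r : ℤ) :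
    IsRegLE (stdGr k σ) ℳ (irrel (stdGr k σ)).toIdeal r ↔ F.IsGenLE r := by
  refine ⟨fun ⟨F', _, hgen⟩ i b => ?_, fun h => ⟨F, hF, h⟩⟩
  obtain ⟨b', hb'⟩ := exists_deg_eq (F' := F') hF i b
  exact hb' ▸ hgen i b'

theorem reg_eq (hF : F.IsMinimal (irrel (stdGr k σ)).toIdeal) :
    reg (stdGr k σ) ℳ (irrel (stdGr k σ)).toIdeal =
      ⨆ i : ℕ, WithBot.map (fun t : ℤ => ((t - (i : ℤ) : ℤ) : WithTop ℤ)) (F.maxGenDeg i) := by
  set X : WithBot (WithTop ℤ) :=
    ⨆ i : ℕ, WithBot.map (fun t : ℤ => ((t - (i : ℤ) : ℤ) : WithTop ℤ)) (F.maxGenDeg i) with hX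
  have hb : ∀ i (b : Fin (F.rk i)), (((F.deg i b - i : ℤ) : WithTop ℤ) : WithBot (WithTop ℤ)) ≤ X := fun i b => by
    refine le_trans ?_ (le_iSup (fun i : ℕ => WithBot.map (fun t : ℤ => ((t - (i : ℤ) : ℤ) : WithTop ℤ)) (F.maxGenDeg i)) i)
    have : (F.deg i b : WithBot ℤ) ≤ F.maxGenDeg i :=
      Finset.le_sup (f := fun b => (F.deg i b : WithBot ℤ)) (Finset.mem_univ b)
    cases h : F.maxGenDeg i with
    | bot => rw [h] at this; exact absurd (le_bot_iff.1 this) WithBot.coe_ne_bot
    | coe t =>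
      rw [h, WithBot.coe_le_coe] at this
      simp only [WithBot.map_coe, WithBot.coe_le_coe, WithTop.coe_le_coe]
      omega
  refine le_antisymm ?_ (iSup_le fun i => le_iInf₂ fun r hr => ?_)
  · have key : ∀ r : ℤ, X ≤ ((r : WithTop ℤ) : WithBot (WithTop ℤ)) →
        reg (stdGr k σ) ℳ (irrel (stdGr k σ)).toIdeal ≤ ((r : WithTop ℤ) : WithBot (WithTop ℤ)) := fun r hr => by
      refine iInf₂_le r ((isRegLE_iff hF r).2 fun i b => ?_)
      have := (hb i b).trans hr
      rw [WithBot.coe_le_coe, WithTop.coe_le_coe] at this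
      omega
    cases hX' : X with
    | bot =>
      refine le_bot_iff.2 (eq_bot_iff.2 ?_)
      by_contra hne
      obtain ⟨y, hy⟩ := WithBot.ne_bot_iff_exists.1 (fun e => hne (e ▸ le_rfl))
      cases y with
      | top =>
        have := key 0 (hX' ▸ bot_le)
        rw [← hy, WithBot.coe_le_coe] at this
        exact WithTop.coe_ne_top (top_le_iff.1 this)
      | coe a =>
        have := key (a - 1) (hX' ▸ bot_le)
        rw [← hy, WithBot.coe_le_coe, WithTop.coe_le_coe] at this
        omega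
    | coe y =>
      cases y with
      | top => exact le_top
      | coe a => exact key a hX'.le
  · have hgen := (isRegLE_iff hF r).1 hr
    cases h : F.maxGenDeg i with
    | bot => exact bot_le
    | coe t =>
      have : F.maxGenDeg i ≤ ((r + i : ℤ) : WithBot ℤ) :=
        Finset.sup_le fun b _ => WithBot.coe_le_coe.2 (hgen i b)
      rw [h, WithBot.coe_le_coe] at this
      simp only [WithBot.map_coe, WithBot.coe_le_coe, WithTop.coe_le_coe]
      omega

end Groth.Agent.GrSyzLib
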