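import Groth.Prelude.Def_GrSyz
import Mathlib.LinearAlgebra.StdBasis
import Mathlib.RingTheory.MvPolynomial.WeightedHomogeneous

/-!
# Graded free resolutions over a polynomial ring: degree bookkeeping and minimality
-/

universe u v

noncomputable section

namespace Groth.Agent.GrSyzLib

open GrSyz MvPolynomial

section Std

variable {k : Type u} [CommRing k] {σ : Type v}

theorem weight_one (d : σ →₀ ℕ) : Finsupp.weight (fun _ : σ => (1 : ℤ)) d = (d.degree : ℤ) := by
  simp [Finsupp.weight_apply, Finsupp.degree, Finsupp.sum]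

/-- The pieces of negative degree vanish. -/
theorem eq_zero_of_neg {n : ℤ} (hn : n < 0) {p : MvPolynomial σ k} (hp : p ∈ stdGr k σ n) : p = 0 := by
  refine MvPolynomial.ext _ _ fun d => ?_
  rw [coeff_zero]
  by_contra h
  have := (mem_stdGr_iff k σ n p).1 hp h
  rw [weight_one] at this
  omega

/-- A homogeneous element of nonzero degree has no constant term. -/
theorem constantCoeff_eq_zero {n : ℤ} (hn : n ≠ 0) {p : MvPolynomial σ k} (hp : p ∈ stdGr k σ n) :
    constantCoeff p = 0 := by
  rw [constantCoeff_eq]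
  by_contra h
  have := (mem_stdGr_iff k σ n p).1 hp h
  rw [weight_one, map_zero] at this
  exact hn this.symm

/-- A homogeneous element of degree zero is a constant. -/
theorem eq_C_of_mem_zero {p : MvPolynomial σ k} (hp : p ∈ stdGr k σ 0) : p = C (constantCoeff p) := by
  classical
  refine MvPolynomial.ext _ _ fun d => ?_
  rw [coeff_C]
  split_ifs with h
  · subst h; rfl
  · by_contra hne
    have := (mem_stdGr_iff k σ 0 p).1 hp hne
    rw [weight_one, Nat.cast_eq_zero, Finsupp.degree_eq_zero_iff] at this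
    exact h this.symm

theorem constantCoeff_eq_zero_of_mem_irrel {p : MvPolynomial σ k} (hp : p ∈ (irrel (stdGr k σ)).toIdeal) :
    constantCoeff p = 0 := by
  have : (irrel (stdGr k σ)).toIdeal ≤ RingHom.ker (constantCoeff (σ := σ) (R := k)) :=
    Ideal.span_le.2 fun q ⟨n, hn, hq⟩ => constantCoeff_eq_zero (by omega) hq
  exact this hp

theorem one_notMem_irrel [Nontrivial k] : (1 : MvPolynomial σ k) ∉ (irrel (stdGr k σ)).toIdeal := fun h =>
  one_ne_zero (α := k) (by simpa using constantCoeff_eq_zero_of_mem_irrel h)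

theorem mem_irrel_of_pos {n : ℤ} (hn : 0 < n) {p : MvPolynomial σ k} (hp : p ∈ stdGr k σ n) :
    p ∈ (irrel (stdGr k σ)).toIdeal :=
  Ideal.subset_span ⟨n, hn, hp⟩

/-- A homogeneous element outside the irrelevant ideal is a nonzero constant of degree zero. -/
theorem eq_C_of_notMem_irrel {n : ℤ} {p : MvPolynomial σ k} (hp : p ∈ stdGr k σ n)
    (h : p ∉ (irrel (stdGr k σ)).toIdeal) : n = 0 ∧ constantCoeff p ≠ 0 ∧ p = C (constantCoeff p) := by
  rcases lt_trichotomy n 0 with hn | rfl | hn
  · exact absurd (eq_zero_of_neg hn hp ▸ Submodule.zero_mem _) h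
  · refine ⟨rfl, fun h0 => h ?_, eq_C_of_mem_zero hp⟩
    rw [eq_C_of_mem_zero hp, h0, map_zero]
    exact Submodule.zero_mem _
  · exact absurd (mem_irrel_of_pos hn hp) h

/-- A nonzero homogeneous element of the irrelevant ideal has positive degree. -/
theorem pos_of_mem_irrel {n : ℤ} {p : MvPolynomial σ k} (hp : p ∈ stdGr k σ n)
    (h : p ∈ (irrel (stdGr k σ)).toIdeal) (h0 : p ≠ 0) : 0 < n := by
  rcases lt_trichotomy n 0 with hn | rfl | hn
  · exact absurd (eq_zero_of_neg hn hp) h0
  · exact absurd (by rw [eq_C_of_mem_zero hp, constantCoeff_eq_zero_of_mem_irrel h, map_zero]) h0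
  · exact hn

end Std

/-- A generator is redundant iff some relation has coefficient one at it. -/
theorem image_single_mem_span_iff {R M : Type*} [CommRing R] [AddCommGroup M] [Module R M] {n : ℕ}
    (f : (Fin n → R) →ₗ[R] M) (b : Fin n) :
    f (Pi.single b 1) ∈ Submodule.span R ((fun b' => f (Pi.single b' 1)) '' {b' | b' ≠ b}) ↔
      ∃ v ∈ LinearMap.ker f, v b = 1 := by
  classical
  rw [show (fun b' => f (Pi.single b' 1)) '' {b' | b' ≠ b} = f '' ((fun b' => (Pi.single b' 1 : Fin n → R)) '' {b' | b' ≠ b})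
    from (Set.image_image f _ _).symm, ← Submodule.map_span]
  have key : ∀ v : Fin n → R, v ∈ Submodule.span R ((fun b' => (Pi.single b' 1 : Fin n → R)) '' {b' | b' ≠ b}) ↔
      v b = 0 := by
    intro v
    constructor
    · intro hv
      induction hv using Submodule.span_induction with
      | mem x hx => obtain ⟨b', hb', rfl⟩ := hx; exact Pi.single_eq_of_ne (Ne.symm hb') _
      | zero => rfl
      | add x y _ _ hx hy => simp [hx, hy]
      | smul r x _ hx => simp [hx]
    · intro hv
      rw [pi_eq_sum_univ' v]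
      refine Submodule.sum_mem _ fun i _ => ?_
      rcases eq_or_ne i b with rfl | hi
      · rw [hv, zero_smul]; exact Submodule.zero_mem _
      · exact Submodule.smul_mem _ _ (Submodule.subset_span ⟨i, hi, rfl⟩)
  constructor
  · rintro ⟨v, hv, e⟩
    refine ⟨Pi.single b 1 - v, by simp [e], by simp [(key v).1 hv]⟩
  · rintro ⟨v, hv, e⟩
    refine ⟨Pi.single b 1 - v, (key _).2 (by simp [e]), by simp [LinearMap.mem_ker.1 hv]⟩

section Res

variable {k : Type u} [Field k] {σ : Type} {M : Type u} [AddCommGroup M] [Module k M]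
  [Module (MvPolynomial σ k) M] {ℳ : ℤ → Submodule k M}
  [DirectSum.Decomposition ℳ] [SetLike.GradedSMul (stdGr k σ) ℳ] (F : FreeRes (stdGr k σ) ℳ)

set_option quotPrecheck false in
local notation "𝔪" => HomogeneousIdeal.toIdeal (irrel (stdGr k σ))

theorem dLin_single (i : ℕ) (b : Fin (F.rk (i + 1))) : F.dLin i (Pi.single b 1) = fun a => F.d i a b := by
  funext a
  simp [FreeRes.dLin]

theorem augLin_single (b : Fin (F.rk 0)) : F.augLin (Pi.single b 1) = F.aug b := by
  simp [FreeRes.augLin, Fintype.linearCombination_apply_single]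

/-- A kernel vector of a map whose kernel is the image of a differential with entries in the irrelevant ideal
has no unit coordinates; conversely. -/
theorem exists_ker_one_iff (i : ℕ) :
    (∃ (v : Fin (F.rk i) → MvPolynomial σ k) (b : Fin (F.rk i)), v ∈ LinearMap.range (F.dLin i) ∧ v b = 1) ↔
      ∃ a b, F.d i a b ∉ 𝔪 := by
  constructor
  · rintro ⟨v, b, ⟨w, rfl⟩, h⟩
    by_contra H
    push Not at H
    refine one_notMem_irrel (k := k) (σ := σ) ?_
    rw [← h]
    rw [show F.dLin i w b = ∑ c, F.d i b c * w c from rfl]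
    exact Submodule.sum_mem _ fun c _ => Ideal.mul_mem_right _ _ (H b c)
  · rintro ⟨a, b, h⟩
    obtain ⟨-, hc, he⟩ := eq_C_of_notMem_irrel (F.d_mem i a b) h
    refine ⟨_, a, ⟨(C (constantCoeff (F.d i a b))⁻¹ : MvPolynomial σ k) • (Pi.single b 1 : Fin (F.rk (i + 1)) → MvPolynomial σ k), rfl⟩, ?_⟩
    rw [map_smul, dLin_single, Pi.smul_apply, smul_eq_mul]
    nth_rewrite 2 [he]
    rw [← map_mul, inv_mul_cancel₀ hc, map_one]

theorem ker_dLin (i : ℕ) : LinearMap.ker (F.dLin i) = LinearMap.range (F.dLin (i + 1)) := F.exact_succ i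

theorem ker_augLin : LinearMap.ker F.augLin = LinearMap.range (F.dLin 0) := F.exact_zero

theorem isMinimal_iff_irredundant :
    F.IsMinimal 𝔪 ↔
      ((∀ b : Fin (F.rk 0), F.aug b ∉ Submodule.span (MvPolynomial σ k) (F.aug '' {b' | b' ≠ b})) ∧
        ∀ (i : ℕ) (b : Fin (F.rk (i + 1))),
          (fun a => F.d i a b) ∉ Submodule.span (MvPolynomial σ k) ((fun b' a => F.d i a b') '' {b' | b' ≠ b})) := by
  have h0 : ∀ b, F.aug b ∈ Submodule.span (MvPolynomial σ k) (F.aug '' {b' | b' ≠ b}) ↔
      ∃ v ∈ LinearMap.range (F.dLin 0), v b = 1 := fun b => by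
    rw [← ker_augLin, ← image_single_mem_span_iff, augLin_single]
    simp only [augLin_single]
  have h1 : ∀ i b, (fun a => F.d i a b) ∈ Submodule.span (MvPolynomial σ k) ((fun b' a => F.d i a b') '' {b' | b' ≠ b}) ↔
      ∃ v ∈ LinearMap.range (F.dLin (i + 1)), v b = 1 := fun i b => by
    rw [← ker_dLin, ← image_single_mem_span_iff]
    simp only [dLin_single]
  have hi : ∀ i, (∀ b : Fin (F.rk i), ¬ ∃ v ∈ LinearMap.range (F.dLin i), v b = 1) ↔ ∀ a b, F.d i a b ∈ 𝔪 :=
    fun i => by
      rw [← not_iff_not]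
      push Not
      rw [← exists_ker_one_iff]
      exact ⟨fun ⟨b, v, hv, e⟩ => ⟨v, b, hv, e⟩, fun ⟨v, b, hv, e⟩ => ⟨b, v, hv, e⟩⟩
  simp only [h0, h1]
  constructor
  · exact fun h => ⟨(hi 0).2 (h 0), fun i => (hi (i + 1)).2 (h (i + 1))⟩
  · rintro ⟨ha, hb⟩ (_ | i)
    · exact (hi 0).1 ha
    · exact (hi (i + 1)).1 (hb i)

variable {F}

/-- In a minimal resolution the generator degrees go up strictly. -/
theorem exists_deg_lt (hF : F.IsMinimal 𝔪) (i : ℕ) (b : Fin (F.rk (i + 1))) :
    ∃ a, F.deg i a < F.deg (i + 1) b := by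
  by_cases h : ∃ a, F.d i a b ≠ 0
  · obtain ⟨a, ha⟩ := h
    exact ⟨a, by have := pos_of_mem_irrel (F.d_mem i a b) (hF i a b) ha; omega⟩
  · push Not at h
    refine absurd ?_ (((isMinimal_iff_irredundant F).1 hF).2 i b)
    rw [show (fun a => F.d i a b) = 0 from funext h]
    exact Submodule.zero_mem _

theorem succ_le_deg_succ (hF : F.IsMinimal 𝔪) (i : ℕ) (d : ℤ) (h : ∀ a, d ≤ F.deg i a)
    (b : Fin (F.rk (i + 1))) : d + 1 ≤ F.deg (i + 1) b := by
  obtain ⟨a, ha⟩ := exists_deg_lt hF i b
  have := h a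
  omega

end Res

end Groth.Agent.GrSyzLib
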