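import Groth.Agent.Lib.GrSyz.Basic
import Mathlib.Algebra.DirectSum.Module
import Mathlib.RingTheory.GradedAlgebra.Basic
import Mathlib.RingTheory.Noetherian.Basic
import Mathlib.RingTheory.Polynomial.Basic

/-!
# Graded free modules over a polynomial ring
-/

universe u

noncomputable section

namespace Groth.Agent.GrSyzLib

open GrSyz MvPolynomial DirectSum

section Modules

variable {k S M N : Type*} [CommRing k] [CommRing S] [AddCommGroup M] [Module k M] [Module S M]
  [AddCommGroup N] [Module k N] [Module S N] {ℳ : ℤ → Submodule k M} {𝒩 : ℤ → Submodule k N}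
  [Decomposition ℳ] [Decomposition 𝒩]

/-- A map respecting the pieces commutes with taking components. -/
theorem decompose_map {F : Type*} [FunLike F M N] [AddMonoidHomClass F M N] (f : F)
    (hf : ∀ (d : ℤ) x, x ∈ ℳ d → f x ∈ 𝒩 d) (x : M) (d : ℤ) :
    (decompose 𝒩 (f x) d : N) = f (decompose ℳ x d) := by
  induction x using Decomposition.inductionOn ℳ with
  | zero => simp [map_zero]
  | @homogeneous i m =>
    rcases eq_or_ne i d with rfl | hid
    · rw [decompose_of_mem_same _ m.2, decompose_of_mem_same _ (hf _ _ m.2)]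
    · rw [decompose_of_mem_ne _ m.2 hid, decompose_of_mem_ne _ (hf _ _ m.2) hid, map_zero]
  | add x y hx hy =>
    simp only [map_add, decompose_add, DirectSum.add_apply, Submodule.coe_add, hx, hy]

variable (ℳ) in
/-- A submodule closed under taking components. -/
def IsHom (P : Submodule S M) : Prop :=
  ∀ x ∈ P, ∀ d, (decompose ℳ x d : M) ∈ P

theorem isHom_top : IsHom ℳ (⊤ : Submodule S M) := fun _ _ _ => trivial

theorem isHom_ker {f : M →ₗ[S] N} (hf : ∀ (d : ℤ) x, x ∈ ℳ d → f x ∈ 𝒩 d) : IsHom ℳ (LinearMap.ker f) :=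
  fun x hx d => by
    rw [LinearMap.mem_ker, ← decompose_map f hf, LinearMap.mem_ker.1 hx, decompose_zero,
      DirectSum.zero_apply, ZeroMemClass.coe_zero]

/-- A finitely generated homogeneous submodule has an irredundant finite family of homogeneous generators. -/
theorem exists_irredundant_generators {P : Submodule S M} (hP : IsHom ℳ P) (hfg : P.FG) :
    ∃ (n : ℕ) (e : Fin n → ℤ) (g : Fin n → M), (∀ b, g b ∈ ℳ (e b)) ∧
      Submodule.span S (Set.range g) = P ∧ ∀ b, g b ∉ Submodule.span S (g '' {b' | b' ≠ b}) := by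
  classical
  have h : ∃ (n : ℕ) (e : Fin n → ℤ) (g : Fin n → M), (∀ b, g b ∈ ℳ (e b)) ∧ Submodule.span S (Set.range g) = P := by
    obtain ⟨G, rfl⟩ := hfg
    let ι := (x : G) × ((decompose ℳ (x : M)).support : Finset ℤ)
    let g : ι → M := fun x => decompose ℳ (x.1 : M) x.2.1
    refine ⟨Fintype.card ι, fun b => ((Fintype.equivFin ι).symm b).2.1, g ∘ (Fintype.equivFin ι).symm,
      fun b => SetLike.coe_mem _, ?_⟩
    rw [Set.range_comp, (Fintype.equivFin ι).symm.range_eq_univ, Set.image_univ]
    refine le_antisymm (Submodule.span_le.2 ?_) (Submodule.span_le.2 fun x hx => ?_)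
    · rintro _ ⟨⟨⟨x, hx⟩, d⟩, rfl⟩
      exact hP x (Submodule.subset_span hx) d.1
    · rw [SetLike.mem_coe, ← sum_support_decompose ℳ x]
      exact Submodule.sum_mem _ fun d hd => Submodule.subset_span ⟨⟨⟨x, hx⟩, ⟨d, hd⟩⟩, rfl⟩
  obtain ⟨e, g, hg, hspan⟩ := Nat.find_spec h
  refine ⟨Nat.find h, e, g, hg, hspan, ?_⟩
  have hmin := @Nat.find_min _ _ h
  generalize Nat.find h = n at hmin e g hg
  intro b hb
  cases n with
  | zero => exact b.elim0
  | succ m =>
    refine hmin (Nat.lt_succ_self m) ⟨e ∘ b.succAbove, g ∘ b.succAbove, fun c => hg _, ?_⟩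
    rw [← hspan, Set.range_comp, Fin.range_succAbove]
    refine le_antisymm (Submodule.span_mono (Set.image_subset_range _ _)) (Submodule.span_le.2 ?_)
    rintro _ ⟨c, rfl⟩
    rcases eq_or_ne c b with rfl | hc
    · exact hb
    · exact Submodule.subset_span ⟨c, hc, rfl⟩

end Modules

section Free

variable {k : Type u} [Field k] {σ : Type} {n : ℕ}

local notation "S" => MvPolynomial σ k

/-- The pieces of the free module with basis in degrees `a`. -/
def freeGr (a : Fin n → ℤ) (d : ℤ) : Submodule k (Fin n → MvPolynomial σ k) where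
  carrier := {v | ∀ b, v b ∈ stdGr k σ (d - a b)}
  zero_mem' _ := Submodule.zero_mem _
  add_mem' h h' b := Submodule.add_mem _ (h b) (h' b)
  smul_mem' c _ h b := Submodule.smul_mem _ c (h b)

variable {a : Fin n → ℤ}

theorem mem_freeGr {d : ℤ} {v : Fin n → S} : v ∈ freeGr a d ↔ ∀ b, v b ∈ stdGr k σ (d - a b) := Iff.rfl

theorem single_mem_freeGr {b : Fin n} {e : ℤ} {p : S} (hp : p ∈ stdGr k σ e) :
    Pi.single b p ∈ freeGr a (e + a b) := fun c => by
  rcases eq_or_ne c b with rfl | hc
  · simpa using hp
  · rw [Pi.single_eq_of_ne hc]; exact Submodule.zero_mem _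

theorem basis_mem_freeGr (b : Fin n) : (Pi.single b 1 : Fin n → S) ∈ freeGr a (a b) := by
  have := single_mem_freeGr (a := a) (b := b) (SetLike.one_mem_graded (stdGr k σ))
  simpa using this

variable (a)

/-- The component of degree `d`. -/
def freeProj (d : ℤ) : (Fin n → S) →ₗ[k] (Fin n → S) :=
  LinearMap.pi fun b => (GradedAlgebra.proj (stdGr k σ) (d - a b)).comp (LinearMap.proj b)

theorem freeProj_of_mem {d : ℤ} {v : Fin n → S} (hv : v ∈ freeGr a d) : freeProj a d v = v :=
  funext fun b => decompose_of_mem_same (stdGr k σ) (hv b)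

theorem freeProj_of_mem_ne {d d' : ℤ} {v : Fin n → S} (hv : v ∈ freeGr a d') (h : d' ≠ d) :
    freeProj a d v = 0 :=
  funext fun b => decompose_of_mem_ne (stdGr k σ) (hv b) (by omega)

theorem freeGr_isInternal : IsInternal (freeGr (k := k) (σ := σ) a) := by
  classical
  rw [isInternal_submodule_iff_iSupIndep_and_iSup_eq_top]
  constructor
  · rw [iSupIndep_def]
    refine fun d => Submodule.disjoint_def.2 fun v hv hv' => ?_
    have hle : (⨆ (j : ℤ) (_ : j ≠ d), freeGr (k := k) (σ := σ) a j) ≤ LinearMap.ker (freeProj a d) :=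
      iSup₂_le fun j hj w hw => freeProj_of_mem_ne a hw hj
    rw [← freeProj_of_mem a hv]
    exact hle hv'
  · rw [eq_top_iff]
    rintro v -
    rw [← Finset.univ_sum_single v]
    refine Submodule.sum_mem _ fun b _ => ?_
    rw [← sum_support_decompose (stdGr k σ) (v b)]
    rw [show (Pi.single b (∑ i ∈ (decompose (stdGr k σ) (v b)).support, (decompose (stdGr k σ) (v b) i : S)) :
        Fin n → S) = LinearMap.single k (fun _ : Fin n => S) b _ from rfl, map_sum]
    exact Submodule.sum_mem _ fun e _ => Submodule.mem_iSup_of_mem (e + a b) (single_mem_freeGr (SetLike.coe_mem _))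

instance freeGr.decomposition : Decomposition (freeGr (k := k) (σ := σ) a) :=
  (freeGr_isInternal a).chooseDecomposition

theorem coe_decompose_freeGr (v : Fin n → S) (d : ℤ) :
    (decompose (freeGr a) v d : Fin n → S) = freeProj a d v := by
  induction v using Decomposition.inductionOn (freeGr (k := k) (σ := σ) a) with
  | zero => simp
  | @homogeneous i m =>
    rcases eq_or_ne i d with rfl | hid
    · rw [decompose_of_mem_same _ m.2, freeProj_of_mem a m.2]
    · rw [decompose_of_mem_ne _ m.2 hid, freeProj_of_mem_ne a m.2 hid]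
  | add x y hx hy => simp only [decompose_add, DirectSum.add_apply, Submodule.coe_add, hx, hy, map_add]

variable {a}
variable {M : Type*} [AddCommGroup M] [Module k M] [Module (MvPolynomial σ k) M] {ℳ : ℤ → Submodule k M}
  [SetLike.GradedSMul (stdGr k σ) ℳ]

/-- A map given by homogeneous images of the basis respects the pieces. -/
theorem linearCombination_mem {u : Fin n → M} (hu : ∀ b, u b ∈ ℳ (a b)) {d : ℤ} {v : Fin n → S}
    (hv : v ∈ freeGr a d) : Fintype.linearCombination S u v ∈ ℳ d := by
  rw [Fintype.linearCombination_apply]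
  refine Submodule.sum_mem _ fun b _ => ?_
  have := SetLike.GradedSMul.smul_mem (hv b) (hu b)
  rwa [vadd_eq_add, sub_add_cancel] at this

/-- A map respecting the pieces sends the basis to homogeneous elements, and conversely. -/
theorem map_mem_of_basis {f : (Fin n → S) →ₗ[S] M} (hf : ∀ b, f (Pi.single b 1) ∈ ℳ (a b)) {d : ℤ}
    {v : Fin n → S} (hv : v ∈ freeGr a d) : f v ∈ ℳ d := by
  classical
  have hfe : f = Fintype.linearCombination S fun b => f (Pi.single b 1) := by
    refine LinearMap.pi_ext' fun b => LinearMap.ext_ring ?_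
    simp [Fintype.linearCombination_apply_single]
  rw [hfe]
  exact linearCombination_mem hf hv

instance freeGr.gradedSMul : SetLike.GradedSMul (stdGr k σ) (freeGr (k := k) (σ := σ) a) where
  smul_mem {i j p v} hp hv b := by
    rw [vadd_eq_add, Pi.smul_apply, smul_eq_mul, show i + j - a b = i + (j - a b) by ring]
    exact SetLike.mul_mem_graded hp (hv b)

end Free

end Groth.Agent.GrSyzLib
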