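import Groth.Agent.Lib.GrSyz.Compare
import Mathlib.LinearAlgebra.FiniteDimensional.Lemmas
import Mathlib.Algebra.Order.Antidiag.FinsuppEquiv
import Mathlib.RingTheory.Polynomial.Pochhammer
import Mathlib.Data.Sym.Card

/-!
# Hilbert functions from graded free resolutions
-/

universe u

noncomputable section

namespace Groth.Agent.GrSyzLib

open GrSyz MvPolynomial DirectSum Module

variable {k : Type u} [Field k] {r : ℕ}

local notation "S" => MvPolynomial (Fin (r + 1)) k

/-- The Hilbert function of the polynomial ring. -/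
def H (r : ℕ) (n : ℤ) : ℕ := if 0 ≤ n then Nat.choose (r + n.toNat) r else 0

theorem stdGr_eq_restrictSupport (n : ℕ) :
    stdGr k (Fin (r + 1)) (n : ℤ) =
      restrictSupport k (↑((Finset.univ : Finset (Fin (r + 1))).finsuppAntidiag n) : Set (Fin (r + 1) →₀ ℕ)) := by
  refine (weightedHomogeneousSubmodule_eq_finsupp_supported k _ _).trans ?_
  congr 1
  ext d
  simp [weight_one, Finset.mem_finsuppAntidiag, Finsupp.degree_eq_sum]
  exact_mod_cast Iff.rfl

theorem finrank_stdGr (n : ℤ) :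
    Module.Finite k (stdGr k (Fin (r + 1)) n) ∧ finrank k (stdGr k (Fin (r + 1)) n) = H r n := by
  by_cases hn : 0 ≤ n
  · obtain ⟨n, rfl⟩ := Int.eq_ofNat_of_zero_le hn
    rw [H, if_pos hn, stdGr_eq_restrictSupport]
    refine ⟨Module.Finite.of_basis (basisRestrictSupport k _), ?_⟩
    rw [finrank_eq_card_basis (basisRestrictSupport k _)]
    simp only [Finset.coe_sort_coe, Fintype.card_coe, Int.toNat_natCast]
    rw [Finset.card_finsuppAntidiag_nat_eq_choose, Finset.card_univ, Fintype.card_fin,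
      show r + 1 + n - 1 = r + n by omega, Nat.choose_symm_add]
  · have : stdGr k (Fin (r + 1)) n = ⊥ :=
      (Submodule.eq_bot_iff _).2 fun p hp => eq_zero_of_neg (not_le.1 hn) hp
    rw [this, H, if_neg hn]
    exact ⟨inferInstance, finrank_bot k _⟩

/-- The pieces of a free module, as a product. -/
def freeGrEquiv {n : ℕ} (a : Fin n → ℤ) (d : ℤ) :
    freeGr (k := k) (σ := Fin (r + 1)) a d ≃ₗ[k] ((b : Fin n) → stdGr k (Fin (r + 1)) (d - a b)) where
  toFun v b := ⟨v.1 b, v.2 b⟩
  invFun w := ⟨fun b => (w b).1, fun b => (w b).2⟩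
  map_add' _ _ := rfl
  map_smul' _ _ := rfl
  left_inv _ := rfl
  right_inv _ := rfl

instance finite_freeGr {n : ℕ} (a : Fin n → ℤ) (d : ℤ) :
    Module.Finite k (freeGr (k := k) (σ := Fin (r + 1)) a d) :=
  have := fun b => (finrank_stdGr (k := k) (r := r) (d - a b)).1
  Module.Finite.equiv (freeGrEquiv a d).symm

theorem finrank_freeGr {n : ℕ} (a : Fin n → ℤ) (d : ℤ) :
    finrank k (freeGr (k := k) (σ := Fin (r + 1)) a d) = ∑ b, H r (d - a b) := by
  have := fun b => (finrank_stdGr (k := k) (r := r) (d - a b)).1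
  rw [(freeGrEquiv a d).finrank_eq, finrank_pi_fintype]
  exact Finset.sum_congr rfl fun b _ => (finrank_stdGr _).2

theorem finrank_map_add_finrank_inf {V W : Type*} [AddCommGroup V] [Module k V] [AddCommGroup W] [Module k W]
    (f : V →ₗ[k] W) (P : Submodule k V) [FiniteDimensional k P] :
    finrank k (P.map f) + finrank k (P ⊓ LinearMap.ker f : Submodule k V) = finrank k P := by
  rw [← LinearMap.finrank_range_add_finrank_ker (f.domRestrict P), LinearMap.range_domRestrict,
    LinearMap.ker_domRestrict, ← Submodule.map_comap_subtype P (LinearMap.ker f)]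
  congr 1
  exact (Submodule.equivMapOfInjective _ (Submodule.injective_subtype P) _).finrank_eq.symm

variable {M : Type u} [AddCommGroup M] [Module k M] [Module (MvPolynomial (Fin (r + 1)) k) M]
  [IsScalarTower k (MvPolynomial (Fin (r + 1)) k) M] {ℳ : ℤ → Submodule k M}
  [Decomposition ℳ] [SetLike.GradedSMul (stdGr k (Fin (r + 1))) ℳ] (F : FreeRes (stdGr k (Fin (r + 1))) ℳ)

/-- The degree `d` piece of the image of the `i`-th differential. -/
def Z (i : ℕ) (d : ℤ) : Submodule k (Fin (F.rk i) → S) :=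
  freeGr (F.deg i) d ⊓ (LinearMap.range (F.dLin i)).restrictScalars k

theorem map_augLin (d : ℤ) : (freeGr (F.deg 0) d).map (F.augLin.restrictScalars k) = ℳ d := by
  refine le_antisymm ?_ fun m hm => ?_
  · rintro _ ⟨v, hv, rfl⟩
    exact map_mem_of_basis (augLin_basis_mem F) hv
  · obtain ⟨v, rfl⟩ := F.aug_surjective m
    refine ⟨decompose (freeGr (F.deg 0)) v d, SetLike.coe_mem _, ?_⟩
    rw [LinearMap.restrictScalars_apply,
      ← decompose_map (𝒩 := ℳ) F.augLin (fun _ _ => map_mem_of_basis (augLin_basis_mem F))]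
    exact decompose_of_mem_same _ hm

omit [IsScalarTower k S M] in
theorem map_dLin (i : ℕ) (d : ℤ) : (freeGr (F.deg (i + 1)) d).map ((F.dLin i).restrictScalars k) = Z F i d := by
  refine le_antisymm ?_ fun m hm => ?_
  · rintro _ ⟨v, hv, rfl⟩
    exact ⟨map_mem_of_basis (dLin_basis_mem F i) hv, v, rfl⟩
  · obtain ⟨hm, v, rfl⟩ := hm
    refine ⟨decompose (freeGr (F.deg (i + 1))) v d, SetLike.coe_mem _, ?_⟩
    rw [LinearMap.restrictScalars_apply,
      ← decompose_map (𝒩 := freeGr (F.deg i)) (F.dLin i) (fun _ _ => map_mem_of_basis (dLin_basis_mem F i))]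
    exact decompose_of_mem_same _ hm

theorem finrank_piece_zero (d : ℤ) :
    finrank k (ℳ d) + finrank k (Z F 0 d) = ∑ b, H r (d - F.deg 0 b) := by
  rw [← finrank_freeGr (k := k), ← finrank_map_add_finrank_inf (F.augLin.restrictScalars k) (freeGr (F.deg 0) d),
    map_augLin, LinearMap.ker_restrictScalars, ker_augLin]
  rfl

omit [IsScalarTower k S M] in
theorem finrank_piece_succ (i : ℕ) (d : ℤ) :
    finrank k (Z F i d) + finrank k (Z F (i + 1) d) = ∑ b, H r (d - F.deg (i + 1) b) := by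
  rw [← finrank_freeGr (k := k),
    ← finrank_map_add_finrank_inf ((F.dLin i).restrictScalars k) (freeGr (F.deg (i + 1)) d),
    map_dLin, LinearMap.ker_restrictScalars, ker_dLin]
  rfl

theorem finrank_piece_partial (d : ℤ) : ∀ m : ℕ, (finrank k (ℳ d) : ℤ) =
    (∑ i ∈ Finset.range (m + 1), (-1 : ℤ) ^ i * ∑ b, (H r (d - F.deg i b) : ℤ)) +
      (-1 : ℤ) ^ (m + 1) * (finrank k (Z F m d) : ℤ)
  | 0 => by
    have := congrArg (fun n : ℕ => (n : ℤ)) (finrank_piece_zero F d)
    push_cast at this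
    simp
    linarith
  | m + 1 => by
    have := congrArg (fun n : ℕ => (n : ℤ)) (finrank_piece_succ F m d)
    push_cast at this
    rw [finrank_piece_partial d m, Finset.sum_range_succ _ (m + 1), ← this, pow_succ _ (m + 1)]
    ring

/-- The Hilbert function through a finite resolution. -/
theorem finrank_piece (m : ℕ) (hF : F.HasLengthLE m) (d : ℤ) : (finrank k (ℳ d) : ℤ) =
    ∑ i ∈ Finset.range (m + 1), (-1 : ℤ) ^ i * ∑ b, (H r (d - F.deg i b) : ℤ) := by
  have hrange : LinearMap.range (F.dLin m) = ⊥ := by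
    rw [eq_bot_iff]
    rintro _ ⟨v, rfl⟩
    have : IsEmpty (Fin (F.rk (m + 1))) := by rw [hF (m + 1) (Nat.lt_succ_self m)]; infer_instance
    rw [Subsingleton.elim v 0, map_zero]
    exact Submodule.zero_mem _
  have : Z F m d = ⊥ := by rw [Z, hrange]; simp
  rw [finrank_piece_partial F d m, this, finrank_bot]
  simp

theorem H_sub (d j : ℤ) : (H r (d - j) : ℤ) = if j ≤ d then ((Nat.choose (r + (d - j).toNat) r : ℕ) : ℤ) else 0 := by
  by_cases h : j ≤ d
  · rw [H, if_pos h, if_pos (by omega)]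
  · rw [H, if_neg h, if_neg (by omega), Nat.cast_zero]

theorem H_eq_eval {n : ℤ} (hn : -(r : ℤ) ≤ n) :
    (H r n : ℚ) = (descPochhammer ℚ r).eval ((n : ℚ) + r) / r.factorial := by
  obtain ⟨m, hm⟩ := Int.eq_ofNat_of_zero_le (show 0 ≤ n + r by omega)
  rw [show (n : ℚ) + r = (m : ℚ) by exact_mod_cast hm, descPochhammer_eval_eq_descFactorial,
    Nat.descFactorial_eq_factorial_mul_choose, Nat.cast_mul, mul_div_cancel_left₀ _ (by positivity)]
  by_cases h : 0 ≤ n
  · rw [H, if_pos h, show r + n.toNat = m by omega]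
  · rw [H, if_neg h, Nat.choose_eq_zero_of_lt (by omega)]

/-- The Hilbert polynomial. -/
theorem exists_polynomial (m : ℕ) (hF : F.HasLengthLE m) :
    ∃ P : Polynomial ℚ, ∀ d : ℤ, (∀ (i : ℕ) (b : Fin (F.rk i)), F.deg i b - (r : ℤ) ≤ d) →
      ((finrank k (ℳ d) : ℤ) : ℚ) = P.eval (d : ℚ) := by
  refine ⟨∑ i ∈ Finset.range (m + 1), Polynomial.C ((-1 : ℚ) ^ i / r.factorial) *
    ∑ b : Fin (F.rk i), (descPochhammer ℚ r).comp (Polynomial.X - Polynomial.C ((F.deg i b : ℚ) - r)), fun d hd => ?_⟩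
  rw [finrank_piece F m hF d]
  push_cast
  simp only [Polynomial.eval_finsetSum, Polynomial.eval_mul, Polynomial.eval_C, Polynomial.eval_comp,
    Polynomial.eval_sub, Polynomial.eval_X, Finset.mul_sum]
  refine Finset.sum_congr rfl fun i _ => Finset.sum_congr rfl fun b _ => ?_
  rw [H_eq_eval (by have := hd i b; omega)]
  push_cast
  ring_nf

omit [IsScalarTower k S M] in
theorem sum_eq_finsum_betti (i : ℕ) (f : ℤ → ℤ) (T : Finset ℤ) (hT : ∀ b, F.deg i b ∈ T) :
    ∑ b, f (F.deg i b) = ∑ j ∈ T, (F.betti i j : ℤ) * f j := by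
  classical
  rw [← Finset.sum_fiberwise_of_maps_to (s := Finset.univ) (g := F.deg i) (t := T) fun b _ => hT b]
  refine Finset.sum_congr rfl fun j _ => ?_
  rw [Finset.sum_congr rfl fun b hb => congrArg f (Finset.mem_filter.1 hb).2, Finset.sum_const, nsmul_eq_mul]
  rfl

/-- The alternating Betti number. -/
def B (m : ℕ) (j : ℤ) : ℤ := ∑ i ∈ Finset.range (m + 1), (-1 : ℤ) ^ i * (F.betti i j : ℤ)

/-- All degrees occurring up to homological degree `m`. -/
def degSet (m : ℕ) : Finset ℤ := (Finset.range (m + 1)).biUnion fun i => Finset.univ.image (F.deg i)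

omit [IsScalarTower k S M] in
theorem B_eq_zero {m : ℕ} {j : ℤ} (hj : j ∉ degSet F m) : B F m j = 0 := by
  refine Finset.sum_eq_zero fun i hi => ?_
  rw [show F.betti i j = 0 from Finset.card_eq_zero.2 (Finset.filter_eq_empty_iff.2 fun b _ e =>
    hj (Finset.mem_biUnion.2 ⟨i, hi, Finset.mem_image.2 ⟨b, Finset.mem_univ _, e⟩⟩))]
  simp

omit [IsScalarTower k S M] in
theorem finsum_B_eq (m : ℕ) (f : ℤ → ℤ) : ∑ᶠ j, B F m j * f j = ∑ j ∈ degSet F m, B F m j * f j :=
  finsum_eq_finsetSum_of_support_subset _ fun j hj => by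
    by_contra h
    exact hj (by simp [B_eq_zero F h])

theorem finrank_piece_finsum (m : ℕ) (hF : F.HasLengthLE m) (d : ℤ) :
    (finrank k (ℳ d) : ℤ) = ∑ᶠ j, B F m j * (H r (d - j) : ℤ) := by
  rw [finsum_B_eq F m fun j => (H r (d - j) : ℤ), finrank_piece F m hF d]
  simp only [B, Finset.sum_mul, mul_assoc]
  rw [Finset.sum_comm (s := degSet F m)]
  refine Finset.sum_congr rfl fun i hi => ?_
  rw [← Finset.mul_sum, sum_eq_finsum_betti F i (fun j => (H r (d - j) : ℤ)) (degSet F m)
    fun b => Finset.mem_biUnion.2 ⟨i, hi, Finset.mem_image.2 ⟨b, Finset.mem_univ _, rfl⟩⟩]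

end Groth.Agent.GrSyzLib
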