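import Groth.Agent.Lib.GrSyz.Hilbert
import Mathlib.LinearAlgebra.Matrix.ToLinearEquiv
import Mathlib.RingTheory.MvPolynomial.Homogeneous

/-!
# Degree matrices of codimension-two resolutions
-/

universe u

noncomputable section

set_option linter.unusedSectionVars false

namespace Groth.Agent.GrSyzLib

open GrSyz MvPolynomial DirectSum Module

section Det

variable {S : Type*} [CommRing S] [IsDomain S]

/-- A zero block forces a vanishing maximal minor, which is impossible next to a row relation with nonzero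
coefficients. -/
theorem not_zero_block {t : ℕ} (A : Matrix (Fin (t + 1)) (Fin t) S) (g : Fin (t + 1) → S)
    (hg : ∀ p, g p ≠ 0) (hA : Function.Injective A.mulVec) (hgA : ∀ q, ∑ p, g p * A p q = 0) (i : Fin t) :
    ¬ ∀ p q, p ≤ i.castSucc → i ≤ q → A p q = 0 := by
  classical
  intro hblock
  let A' : Matrix (Fin t) (Fin t) S := A.submatrix Fin.castSucc id
  have hdet : A'.det = 0 := by
    rw [Matrix.det_apply]
    refine Finset.sum_eq_zero fun σ _ => ?_
    obtain ⟨q, hq, hσ⟩ : ∃ q, i ≤ q ∧ σ q ≤ i := by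
      by_contra! h
      have hc := Finset.card_le_card_of_injOn σ (s := Finset.Ici i) (t := Finset.Ioi i)
        (fun q hq => Finset.mem_Ioi.2 (h q (Finset.mem_Ici.1 hq))) σ.injective.injOn
      rw [Fin.card_Ici, Fin.card_Ioi] at hc
      omega
    have h0 : ∏ j, A' (σ j) j = 0 := Finset.prod_eq_zero (Finset.mem_univ q)
      (hblock _ q (Fin.castSucc_le_castSucc_iff.2 hσ) hq)
    exact (congrArg (Equiv.Perm.sign σ • ·) h0).trans (smul_zero _)
  obtain ⟨v, hv, hv0⟩ := Matrix.exists_mulVec_eq_zero_iff.2 hdet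
  have h1 : ∀ p : Fin t, A.mulVec v p.castSucc = 0 := fun p => congrFun hv0 p
  have h2 : ∑ p, g p * A.mulVec v p = 0 := by
    simp only [Matrix.mulVec, dotProduct, Finset.mul_sum]
    rw [Finset.sum_comm]
    refine Finset.sum_eq_zero fun q _ => ?_
    simp only [← mul_assoc]
    rw [← Finset.sum_mul, hgA, zero_mul]
  rw [Fin.sum_univ_castSucc] at h2
  simp only [h1, mul_zero, Finset.sum_const_zero, zero_add] at h2
  refine hv (hA ?_)
  rw [Matrix.mulVec_zero]
  funext p
  refine Fin.lastCases ?_ h1 p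
  exact (mul_eq_zero.1 h2).resolve_left (hg _)

end Det

variable {k : Type u} [Field k]

theorem two_mul_H {x : ℤ} (hx : 0 ≤ x) : 2 * (H 2 x : ℤ) = (x + 2) * (x + 1) := by
  obtain ⟨n, rfl⟩ := Int.eq_ofNat_of_zero_le hx
  have h : 2 * Nat.choose (2 + n) 2 = (n + 2) * (n + 1) := by
    rw [Nat.choose_two_right, Nat.mul_div_cancel' (Nat.even_mul_pred_self (2 + n)).two_dvd,
      show 2 + n - 1 = n + 1 by omega, add_comm 2 n]
  rw [H, if_pos hx, Int.toNat_natCast]
  exact_mod_cast h

theorem homogeneousComponent_stdGr {d : ℤ} {p : (MvPolynomial (Fin 3) k)} (hp : p ∈ stdGr k (Fin 3) d) (j : ℕ) :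
    MvPolynomial.homogeneousComponent j p = p ∨ MvPolynomial.homogeneousComponent j p = 0 := by
  rcases eq_or_ne (j : ℤ) d with h | h
  · refine Or.inl (MvPolynomial.ext _ _ fun e => ?_)
    rw [coeff_homogeneousComponent]
    split_ifs with he
    · rfl
    · by_contra hne
      have := (mem_stdGr_iff k (Fin 3) d p).1 hp (Ne.symm hne)
      rw [weight_one, ← h] at this
      exact he (by exact_mod_cast this)
  · refine Or.inr (MvPolynomial.ext _ _ fun e => ?_)
    rw [coeff_homogeneousComponent, coeff_zero]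
    split_ifs with he
    · by_contra hne
      have := (mem_stdGr_iff k (Fin 3) d p).1 hp hne
      rw [weight_one, he] at this
      exact h this
    · rfl

variable {M : Type u} [AddCommGroup M] [Module k M] [Module (MvPolynomial (Fin 3) k) M] [IsScalarTower k (MvPolynomial (Fin 3) k) M]
  {ℳ : ℤ → Submodule k M} [Decomposition ℳ] [SetLike.GradedSMul (stdGr k (Fin 3)) ℳ]
  {π : (MvPolynomial (Fin 3) k) →ₗ[(MvPolynomial (Fin 3) k)] M} (hπ : Function.Surjective π) (hπg : ∀ (d : ℤ) x, x ∈ stdGr k (Fin 3) d → π x ∈ ℳ d)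
  (F : FreeRes (stdGr k (Fin 3)) ℳ)

set_option quotPrecheck false in
local notation "𝔪" => HomogeneousIdeal.toIdeal (irrel (stdGr k (Fin 3)))

include hπ hπg in
theorem exists_homogeneous_lift {d : ℤ} {x : M} (hx : x ∈ ℳ d) : ∃ q ∈ stdGr k (Fin 3) d, π q = x := by
  obtain ⟨q, rfl⟩ := hπ x
  refine ⟨(decompose (stdGr k (Fin 3)) q d : (MvPolynomial (Fin 3) k)), Submodule.coe_mem _, ?_⟩
  rw [← decompose_map (ℳ := stdGr k (Fin 3)) (𝒩 := ℳ) π hπg q d, decompose_of_mem_same ℳ hx]

variable (hne : π 1 ≠ 0)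

include hπ hπg hne in
/-- A minimal resolution of a cyclic module starts with one generator in degree zero. -/
theorem cyclic_start (hF : F.IsMinimal 𝔪) : F.rk 0 = 1 ∧ ∀ b, F.deg 0 b = 0 := by
  classical
  obtain ⟨w, hw⟩ := F.aug_surjective (π 1)
  have hgen : ∀ x : M, ∃ p : (MvPolynomial (Fin 3) k), x = p • π 1 := fun x => by
    obtain ⟨p, rfl⟩ := hπ x
    exact ⟨p, by rw [← map_smul, smul_eq_mul, mul_one]⟩
  choose p hp using fun b => hgen (F.aug b)
  have hker : ∀ v : Fin (F.rk 0) → (MvPolynomial (Fin 3) k), F.augLin v = 0 → ∀ c, constantCoeff (v c) = 0 := by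
    intro v hv c
    obtain ⟨u, hu⟩ : v ∈ LinearMap.range (F.dLin 0) := by rw [← ker_augLin]; exact hv
    rw [← hu]
    exact constantCoeff_eq_zero_of_mem_irrel (dLin_apply_mem hF 0 u c)
  have hrel : ∀ b c, (if c = b then 1 else 0) = constantCoeff (p b) * constantCoeff (w c) := by
    intro b c
    have h := hker (Pi.single b 1 - p b • w) (by
      rw [map_sub, map_smul, augLin_single, hw, ← hp, sub_self]) c
    rw [Pi.sub_apply, Pi.smul_apply, smul_eq_mul, map_sub, map_mul, sub_eq_zero] at h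
    rw [← h, Pi.single_apply]
    split_ifs <;> simp
  have hone : ∀ b c : Fin (F.rk 0), c = b := fun b c => by
    by_contra hbc
    have h1 := hrel b b
    have h2 := hrel b c
    have h3 := hrel c c
    rw [if_pos rfl] at h1 h3
    rw [if_neg hbc] at h2
    rcases mul_eq_zero.1 h2.symm with h | h
    · rw [h, zero_mul] at h1; exact one_ne_zero h1
    · rw [h, mul_zero] at h3; exact one_ne_zero h3
  have hpos : 0 < F.rk 0 := by
    by_contra h
    have : IsEmpty (Fin (F.rk 0)) := by rw [Nat.eq_zero_of_not_pos h]; infer_instance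
    exact hne (hw.symm.trans (by rw [Subsingleton.elim w 0, map_zero]))
  refine ⟨?_, fun b => ?_⟩
  · have : Subsingleton (Fin (F.rk 0)) := ⟨fun b c => hone c b⟩
    have := Fintype.card_le_one_iff_subsingleton.2 this
    rw [Fintype.card_fin] at this
    omega
  · obtain ⟨q, hq, hqb⟩ := exists_homogeneous_lift hπ hπg (F.aug_mem b)
    have hpq : F.aug b = q • π 1 := by rw [← hqb, ← map_smul, smul_eq_mul, mul_one]
    have h := hker (Pi.single b 1 - q • w) (by
      rw [map_sub, map_smul, augLin_single, hw, ← hpq, sub_self]) b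
    rw [Pi.sub_apply, Pi.smul_apply, smul_eq_mul, map_sub, map_mul, Pi.single_eq_same, map_one, sub_eq_zero] at h
    by_contra hdeg
    rw [constantCoeff_eq_zero hdeg hq, zero_mul] at h
    exact one_ne_zero h

variable {t : ℕ} (h1 : F.rk 1 = t + 1) (h2 : F.rk 2 = t)

include hπ hπg hne in
/-- The sums of the two degree sequences agree when the Hilbert function is bounded. -/
theorem sum_deg_eq (hF : F.IsMinimal 𝔪) (hlen : F.HasLengthLE 2) {B : ℕ} (hB : ∀ d, finrank k (ℳ d) ≤ B) :
    ∑ i : Fin (t + 1), F.deg 1 (Fin.cast h1.symm i) = ∑ j : Fin t, F.deg 2 (Fin.cast h2.symm j) := by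
  obtain ⟨h0, hd0⟩ := cyclic_start hπ hπg F hne hF
  rw [Fintype.sum_equiv (finCongr h1.symm) (fun i => F.deg 1 (Fin.cast h1.symm i)) (F.deg 1) (fun i => rfl),
    Fintype.sum_equiv (finCongr h2.symm) (fun i => F.deg 2 (Fin.cast h2.symm i)) (F.deg 2) (fun i => rfl)]
  obtain ⟨N, hN0, hN1, hN2⟩ : ∃ N : ℤ, 0 ≤ N ∧ (∀ b, F.deg 1 b ≤ N) ∧ ∀ b, F.deg 2 b ≤ N := by
    refine ⟨∑ b, |F.deg 1 b| + ∑ b, |F.deg 2 b|,
      add_nonneg (Finset.sum_nonneg fun _ _ => abs_nonneg _) (Finset.sum_nonneg fun _ _ => abs_nonneg _),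
      fun b => ?_, fun b => ?_⟩
    · have := Finset.single_le_sum (fun c _ => abs_nonneg (F.deg 1 c)) (Finset.mem_univ b)
      have := le_abs_self (F.deg 1 b)
      have : 0 ≤ ∑ b, |F.deg 2 b| := Finset.sum_nonneg fun _ _ => abs_nonneg _
      omega
    · have := Finset.single_le_sum (fun c _ => abs_nonneg (F.deg 2 c)) (Finset.mem_univ b)
      have := le_abs_self (F.deg 2 b)
      have : 0 ≤ ∑ b, |F.deg 1 b| := Finset.sum_nonneg fun _ _ => abs_nonneg _
      omega
  have hsum : ∀ {n : ℕ} (e : Fin n → ℤ) (x : ℤ), ∑ b, (x - e b + 2) * (x - e b + 1) =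
      n * ((x + 2) * (x + 1)) - (2 * x + 3) * ∑ b, e b + ∑ b, e b * e b := by
    intro n e x
    have hn : ((n : ℤ) * ((x + 2) * (x + 1))) = ∑ _b : Fin n, (x + 2) * (x + 1) := by simp
    rw [hn, Finset.mul_sum, ← Finset.sum_sub_distrib, ← Finset.sum_add_distrib]
    exact Finset.sum_congr rfl fun b _ => by ring
  have hpoly : ∀ x, N ≤ x → 2 * (finrank k (ℳ x) : ℤ) = (x + 2) * (x + 1)
      - ((F.rk 1 : ℤ) * ((x + 2) * (x + 1)) - (2 * x + 3) * ∑ b, F.deg 1 b + ∑ b, F.deg 1 b * F.deg 1 b)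
      + ((F.rk 2 : ℤ) * ((x + 2) * (x + 1)) - (2 * x + 3) * ∑ b, F.deg 2 b + ∑ b, F.deg 2 b * F.deg 2 b) := by
    intro x hx
    rw [← hsum, ← hsum, finrank_piece F 2 hlen x, mul_add_one_sum]
    have e0 : ∑ b : Fin (F.rk 0), (H 2 (x - F.deg 0 b) : ℤ) = H 2 x := by
      simp only [hd0, sub_zero, Finset.sum_const, Finset.card_univ, Fintype.card_fin, h0, one_smul]
    rw [e0, two_mul_H (by omega), Finset.mul_sum, Finset.mul_sum,
      Finset.sum_congr rfl fun b _ => two_mul_H (x := x - F.deg 1 b) (by have := hN1 b; omega),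
      Finset.sum_congr rfl fun b _ => two_mul_H (x := x - F.deg 2 b) (by have := hN2 b; omega)]
  have ha := hpoly N le_rfl
  have hb := hpoly (N + (B + 1 : ℕ)) (by omega)
  have h1' : (F.rk 1 : ℤ) = (F.rk 2 : ℤ) + 1 := by rw [h1, h2]; push_cast; ring
  have hB1 := hB N
  have hB2 := hB (N + (B + 1 : ℕ))
  generalize ∑ b, F.deg 1 b = A1 at *
  generalize ∑ b, F.deg 2 b = A2 at *
  rw [h1'] at ha hb
  by_contra hne'
  have hdiff : (finrank k (ℳ (N + (B + 1 : ℕ))) : ℤ) - finrank k (ℳ N) = ((B + 1 : ℕ) : ℤ) * (A1 - A2) := by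
    have : 2 * ((finrank k (ℳ (N + (B + 1 : ℕ))) : ℤ) - finrank k (ℳ N)) =
        2 * (((B + 1 : ℕ) : ℤ) * (A1 - A2)) := by
      rw [mul_sub, ha, hb]; ring
    omega
  have hb1 : (finrank k (ℳ N) : ℤ) ≤ B := by exact_mod_cast hB1
  have hb2 : (finrank k (ℳ (N + (B + 1 : ℕ))) : ℤ) ≤ B := by exact_mod_cast hB2
  have hq : (0 : ℤ) ≤ ((B + 1 : ℕ) : ℤ) := Int.natCast_nonneg _
  rcases lt_or_gt_of_ne hne' with h | h
  · have := mul_le_mul_of_nonneg_left (show A1 - A2 ≤ -1 by omega) hq
    omega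
  · have := mul_le_mul_of_nonneg_left (show 1 ≤ A1 - A2 by omega) hq
    omega
where
  mul_add_one_sum {f : ℕ → ℤ} : 2 * ∑ i ∈ Finset.range (2 + 1), (-1 : ℤ) ^ i * f i = 2 * f 0 - 2 * f 1 + 2 * f 2 := by
    rw [Finset.sum_range_succ, Finset.sum_range_succ, Finset.sum_range_one]
    ring

include hπ hπg hne in
/-- The diagonal degrees of the matrix of relations are positive. -/
theorem diag_deg_pos (hF : F.IsMinimal 𝔪) (hlen : F.HasLengthLE 2)
    (ha : ∀ i j : Fin (t + 1), i ≤ j → F.deg 1 (Fin.cast h1.symm j) ≤ F.deg 1 (Fin.cast h1.symm i))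
    (hb : ∀ i j : Fin t, i ≤ j → F.deg 2 (Fin.cast h2.symm j) ≤ F.deg 2 (Fin.cast h2.symm i)) (i : Fin t) :
    1 ≤ F.deg 2 (Fin.cast h2.symm i) - F.deg 1 (Fin.cast h1.symm i.castSucc) ∧
      1 ≤ F.deg 2 (Fin.cast h2.symm i) - F.deg 1 (Fin.cast h1.symm i.succ) := by
  obtain ⟨h0, -⟩ := cyclic_start hπ hπg F hne hF
  suffices h : 1 ≤ F.deg 2 (Fin.cast h2.symm i) - F.deg 1 (Fin.cast h1.symm i.castSucc) by
    refine ⟨h, ?_⟩
    have := ha i.castSucc i.succ (Fin.castSucc_le_succ i)
    omega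
  by_contra hle
  let b0 : Fin (F.rk 0) := ⟨0, by omega⟩
  have hsub : Subsingleton (Fin (F.rk 0)) := by rw [h0]; infer_instance
  let A : Matrix (Fin (t + 1)) (Fin t) (MvPolynomial (Fin 3) k) := (F.d 1).submatrix (Fin.cast h1.symm) (Fin.cast h2.symm)
  refine not_zero_block A (fun p => F.d 0 b0 (Fin.cast h1.symm p)) (fun p hp => ?_) ?_ (fun q => ?_) i
    fun p q hp hq => ?_
  · -- minimal generators do not vanish
    refine ((isMinimal_iff_irredundant F).1 hF).2 0 (Fin.cast h1.symm p) ?_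
    rw [show (fun a => F.d 0 a (Fin.cast h1.symm p)) = 0 from funext fun a => by
      rw [Subsingleton.elim a b0]; exact hp]
    exact Submodule.zero_mem _
  · -- the last differential is injective
    have hinj : Function.Injective (F.dLin 1) := by
      rw [← LinearMap.ker_eq_bot, ker_dLin, eq_bot_iff]
      rintro _ ⟨u, rfl⟩
      have : IsEmpty (Fin (F.rk (1 + 1 + 1))) := by rw [hlen 3 (by omega)]; infer_instance
      rw [Subsingleton.elim u 0, map_zero]
      exact Submodule.zero_mem _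
    intro x y hxy
    have key : ∀ (x : Fin t → (MvPolynomial (Fin 3) k)) (p : Fin (t + 1)),
        A.mulVec x p = F.dLin 1 (x ∘ Fin.cast h2) (Fin.cast h1.symm p) := fun x p =>
      Fintype.sum_equiv (finCongr h2.symm) _ _ fun q => by
        show A p q * x q = F.d 1 (Fin.cast h1.symm p) (Fin.cast h2.symm q) * x (Fin.cast h2 (Fin.cast h2.symm q))
        rfl
    have h := hinj (a₁ := x ∘ Fin.cast h2) (a₂ := y ∘ Fin.cast h2) (funext fun r => by
      have := congrFun hxy (Fin.cast h1 r)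
      rwa [key, key, Fin.cast_cast, Fin.cast_eq_self] at this)
    funext q
    have := congrFun h (Fin.cast h2.symm q)
    simpa using this
  · -- the composite vanishes
    have h := congrFun (dLin_dLin F 0 (Pi.single (Fin.cast h2.symm q) 1)) b0
    rw [dLin_single] at h
    refine Eq.trans ?_ h
    exact Fintype.sum_equiv (finCongr h1.symm) _ _ fun p => rfl
  · -- the block is zero for degree reasons
    have hdeg : F.deg 2 (Fin.cast h2.symm q) - F.deg 1 (Fin.cast h1.symm p) ≤ 0 := by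
      have := ha p i.castSucc hp
      have := hb i q hq
      omega
    show F.d 1 (Fin.cast h1.symm p) (Fin.cast h2.symm q) = 0
    have hm : F.d 1 (Fin.cast h1.symm p) (Fin.cast h2.symm q) ∈
        stdGr k (Fin 3) (F.deg 2 (Fin.cast h2.symm q) - F.deg 1 (Fin.cast h1.symm p)) :=
      F.d_mem 1 _ _
    rcases hdeg.lt_or_eq with h | h
    · exact eq_zero_of_neg h hm
    · by_contra hne0
      have := pos_of_mem_irrel hm (hF 1 _ _) hne0
      omega

include hπ hπg in
/-- The Hilbert function of a set of points is bounded by their number. -/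
theorem finrank_piece_le (Z : Finset (Fin 3 → k))
    (hI : ∀ f : (MvPolynomial (Fin 3) k), (∀ p ∈ Z, ∀ j : ℕ, MvPolynomial.eval p (MvPolynomial.homogeneousComponent j f) = 0) → π f = 0)
    (d : ℤ) : finrank k (ℳ d) ≤ Z.card := by
  haveI := (finrank_stdGr (k := k) (r := 2) d).1
  let P := stdGr k (Fin 3) d
  let f : P →ₗ[k] M := (π.restrictScalars k) ∘ₗ P.subtype
  let g : P →ₗ[k] (Z → k) := LinearMap.pi fun p => (MvPolynomial.aeval p.1).toLinearMap ∘ₗ P.subtype
  have hf : LinearMap.range f = ℳ d := by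
    refine le_antisymm ?_ fun x hx => ?_
    · rintro _ ⟨q, rfl⟩
      exact hπg d q.1 q.2
    · obtain ⟨q, hq, rfl⟩ := exists_homogeneous_lift hπ hπg hx
      exact ⟨⟨q, hq⟩, rfl⟩
  have hker : LinearMap.ker g ≤ LinearMap.ker f := fun q hq => hI q.1 fun p hp j => by
    rcases homogeneousComponent_stdGr q.2 j with h | h
    · rw [h, ← MvPolynomial.coe_aeval_eq_eval]
      exact congrFun hq ⟨p, hp⟩
    · rw [h, map_zero]
  have e1 := f.finrank_range_add_finrank_ker
  have e2 := g.finrank_range_add_finrank_ker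
  have e3 := Submodule.finrank_mono hker
  have e4 : finrank k (LinearMap.range g) ≤ Z.card := (Submodule.finrank_le _).trans (by simp)
  rw [hf] at e1
  omega

end Groth.Agent.GrSyzLib
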