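import Groth.Prelude.Def_GrSyz
import Groth.Agent.Lib.GrSyz.Basic
import Mathlib.RingTheory.MvPolynomial.Ideal
import Mathlib.Algebra.BigOperators.Group.Finset.Basic

/-!
# The Koszul complex on the variables as functions on finite sets
-/

universe u

noncomputable section

namespace Groth.Agent.GrSyzLib

open MvPolynomial

variable {σ : Type} [Fintype σ] [LinearOrder σ]

/-- The sign of putting `v` in front of the elements of `A` below it. -/
def ksgn (v : σ) (A : Finset σ) : ℤ := (-1) ^ (A.filter (· < v)).card

theorem ksgn_insert {u : σ} {A : Finset σ} (hu : u ∉ A) (w : σ) :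
    ksgn w (insert u A) = (if u < w then -1 else 1) * ksgn w A := by
  unfold ksgn
  rw [Finset.filter_insert]
  split_ifs with h
  · rw [Finset.card_insert_of_notMem (fun hm => hu (Finset.mem_of_mem_filter _ hm)), pow_succ']
  · rw [one_mul]

theorem ksgn_mul_self (v : σ) (A : Finset σ) : ksgn v A * ksgn v A = 1 := by
  rw [ksgn, ← mul_pow]
  simp

theorem ksgn_swap {u w : σ} {B : Finset σ} (huw : u ≠ w) (hu : u ∉ B) (hw : w ∉ B) :
    ksgn u B * ksgn w (insert u B) = -(ksgn w B * ksgn u (insert w B)) := by
  rw [ksgn_insert hu, ksgn_insert hw]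
  rcases lt_or_gt_of_ne huw with h | h
  · rw [if_pos h, if_neg h.not_gt]; ring
  · rw [if_neg h.not_gt, if_pos h]; ring

theorem ksgn_of_min {v : σ} {A : Finset σ} (h : ∀ a ∈ A, v ≤ a) : ksgn v A = 1 := by
  rw [ksgn, Finset.filter_eq_empty_iff.2 fun a ha => (h a ha).not_gt]
  simp

variable {k : Type u} [CommRing k] {N : Type u} [AddCommGroup N] [Module (MvPolynomial σ k) N]

/-- The Koszul differential. -/
def kd (z : Finset σ → N) (A : Finset σ) : N :=
  ∑ u ∈ Aᶜ, ksgn u A • (X u : MvPolynomial σ k) • z (insert u A)

/-- The homotopy of a variable. -/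
def kh (v : σ) (z : Finset σ → N) (A : Finset σ) : N :=
  if v ∈ A then ksgn v (A.erase v) • z (A.erase v) else 0

theorem kd_zero (A : Finset σ) : kd (k := k) (0 : Finset σ → N) A = 0 := by simp [kd]

theorem kd_add (z z' : Finset σ → N) : kd (k := k) (z + z') = kd (k := k) z + kd (k := k) z' := by
  funext A
  simp [kd, smul_add, Finset.sum_add_distrib]

theorem kd_sub (z z' : Finset σ → N) : kd (k := k) (z - z') = kd (k := k) z - kd (k := k) z' := by
  funext A
  simp [kd, smul_sub, Finset.sum_sub_distrib]

theorem kd_sum {ι : Type*} (s : Finset ι) (z : ι → Finset σ → N) :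
    kd (k := k) (∑ i ∈ s, z i) = ∑ i ∈ s, kd (k := k) (z i) := by
  classical
  induction s using Finset.induction_on with
  | empty => funext A; simp [kd]
  | insert a s ha ih => rw [Finset.sum_insert ha, kd_add, ih, Finset.sum_insert ha]

theorem map_kd {N' : Type u} [AddCommGroup N'] [Module (MvPolynomial σ k) N']
    (f : N →ₗ[MvPolynomial σ k] N') (z : Finset σ → N) (A : Finset σ) :
    f (kd (k := k) z A) = kd (k := k) (fun B => f (z B)) A := by
  simp [kd, map_sum]

theorem kd_mem (P : Submodule (MvPolynomial σ k) N) {z : Finset σ → N} (hz : ∀ A, z A ∈ P) (A : Finset σ) :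
    kd (k := k) z A ∈ P :=
  Submodule.sum_mem _ fun u _ => zsmul_mem (P.smul_mem _ (hz _)) _

theorem kh_mem (P : Submodule (MvPolynomial σ k) N) (v : σ) {z : Finset σ → N} (hz : ∀ A, z A ∈ P) (A : Finset σ) :
    kh v z A ∈ P := by
  unfold kh
  split_ifs
  · exact zsmul_mem (hz _) _
  · exact zero_mem _

theorem kd_supp {p : ℕ} {z : Finset σ → N} (hz : ∀ A, A.card ≠ p + 1 → z A = 0) {A : Finset σ} (hA : A.card ≠ p) :
    kd (k := k) z A = 0 :=
  Finset.sum_eq_zero fun u hu => by
    rw [hz _ (by rw [Finset.card_insert_of_notMem (Finset.mem_compl.1 hu)]; omega), smul_zero, smul_zero]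

theorem kd_supp_zero {z : Finset σ → N} (hz : ∀ A, A.card ≠ 0 → z A = 0) : kd (k := k) z = 0 :=
  funext fun A => Finset.sum_eq_zero fun u hu => by
    rw [hz _ (by rw [Finset.card_insert_of_notMem (Finset.mem_compl.1 hu)]; omega), smul_zero, smul_zero]

theorem kd_kd (z : Finset σ → N) : kd (k := k) (kd (k := k) z) = 0 := by
  funext A
  simp only [kd, Finset.smul_sum, smul_comm ((X _ : MvPolynomial σ k)) (ksgn _ _), smul_smul]
  rw [Finset.sum_sigma']
  refine Finset.sum_involution (fun p _ => ⟨p.2, p.1⟩) ?_ ?_ ?_ (fun _ _ => rfl)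
  · rintro ⟨u, w⟩ hp
    simp only [Finset.mem_sigma, Finset.mem_compl, Finset.mem_insert, not_or] at hp
    obtain ⟨hu, hwu, hw⟩ := hp
    show (ksgn u A * ksgn w (insert u A)) • ((X u : MvPolynomial σ k) * X w) • z (insert w (insert u A)) +
      (ksgn w A * ksgn u (insert w A)) • ((X w : MvPolynomial σ k) * X u) • z (insert u (insert w A)) = 0
    rw [ksgn_swap (Ne.symm hwu) hu hw, mul_comm (X u : MvPolynomial σ k), Finset.insert_comm w u, neg_smul,
      neg_add_cancel]
  · rintro ⟨u, w⟩ hp - h
    simp only [Finset.mem_sigma, Finset.mem_compl, Finset.mem_insert, not_or] at hp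
    exact hp.2.1 (congrArg Sigma.fst h)
  · rintro ⟨u, w⟩ hp
    simp only [Finset.mem_sigma, Finset.mem_compl, Finset.mem_insert, not_or] at hp ⊢
    exact ⟨hp.2.2, Ne.symm hp.2.1, hp.1⟩

theorem kd_kh (v : σ) (z : Finset σ → N) (A : Finset σ) :
    kd (k := k) (kh v z) A + kh v (kd (k := k) z) A = (X v : MvPolynomial σ k) • z A := by
  by_cases hv : v ∈ A
  · obtain ⟨B, hvB, rfl⟩ : ∃ B, v ∉ B ∧ A = insert v B :=
      ⟨A.erase v, Finset.notMem_erase v A, (Finset.insert_erase hv).symm⟩
    rw [kh, if_pos hv, Finset.erase_insert hvB, kd, kd, ← Finset.add_sum_erase Bᶜ _ (Finset.mem_compl.2 hvB),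
      ← Finset.compl_insert, smul_add, smul_smul, ksgn_mul_self, one_smul, add_left_comm, Finset.smul_sum,
      ← Finset.sum_add_distrib, Finset.sum_eq_zero, add_zero]
    intro u hu
    rw [Finset.mem_compl, Finset.mem_insert, not_or] at hu
    rw [kh, if_pos (Finset.mem_insert_of_mem (Finset.mem_insert_self v B)),
      show (insert u (insert v B)).erase v = insert u B by
        rw [Finset.insert_comm, Finset.erase_insert]
        simp [Ne.symm hu.1, hvB],
      smul_comm (X u : MvPolynomial σ k) (ksgn v (insert u B)), smul_smul, smul_smul, ← add_smul,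
      show ksgn u (insert v B) * ksgn v (insert u B) + ksgn v B * ksgn u B = 0 from ?_, zero_smul]
    rw [ksgn_insert hvB, ksgn_insert hu.2]
    rcases lt_or_gt_of_ne hu.1 with h | h
    · rw [if_neg h.not_gt, if_pos h]; ring
    · rw [if_pos h, if_neg h.not_gt]; ring
  · rw [kh, if_neg hv, add_zero, kd, Finset.sum_eq_single v]
    · rw [kh, if_pos (Finset.mem_insert_self v A), Finset.erase_insert hv, smul_comm _ (ksgn v A), smul_smul,
        ksgn_mul_self, one_smul]
    · intro u _ huv
      rw [kh, if_neg (by simp [Ne.symm huv, hv]), smul_zero, smul_zero]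
    · intro h
      exact absurd (Finset.mem_compl.2 hv) h

/-- A variable kills the homology of the Koszul complex. -/
theorem smul_cycle_eq (v : σ) {z : Finset σ → N} (hz : kd (k := k) z = 0) :
    kd (k := k) (kh v z) = fun A => (X v : MvPolynomial σ k) • z A := funext fun A => by
  have h := kd_kh (k := k) v z A
  rw [hz] at h
  rw [← h, show kh v (0 : Finset σ → N) A = 0 by unfold kh; split_ifs <;> simp, add_zero]

section Exact

/-- The terms of `p / X v` free of the variables below `v`. -/
def dropFun (v : σ) (p : MvPolynomial σ k) : MvPolynomial σ k :=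
  (divMonomial p (Finsupp.single v 1)).support.sum fun e =>
    if ∀ u, u < v → e u = 0 then monomial e (coeff (e + Finsupp.single v 1) p) else 0

theorem coeff_dropFun (v : σ) (p : MvPolynomial σ k) (e : σ →₀ ℕ) :
    coeff e (dropFun v p) = if ∀ u, u < v → e u = 0 then coeff (e + Finsupp.single v 1) p else 0 := by
  classical
  rw [dropFun, coeff_sum, Finset.sum_eq_single e]
  · split_ifs with h
    · rw [coeff_monomial, if_pos rfl]
    · rw [coeff_zero]
  · intro d _ hd
    split_ifs
    · rw [coeff_monomial, if_neg hd]
    · rw [coeff_zero]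
  · intro h
    rw [MvPolynomial.notMem_support_iff, coeff_divMonomial, add_comm] at h
    rw [h, map_zero]
    simp

/-- Division by `X v` of the part of a polynomial free of the variables below `v`. -/
def dropBelow (v : σ) : MvPolynomial σ k →+ MvPolynomial σ k :=
  AddMonoidHom.mk' (dropFun v) fun p q => MvPolynomial.ext _ _ fun d => by
    rw [coeff_add, coeff_dropFun, coeff_dropFun, coeff_dropFun, coeff_add]
    split_ifs <;> simp

theorem coeff_dropBelow (v : σ) (p : MvPolynomial σ k) (e : σ →₀ ℕ) :
    coeff e (dropBelow v p) = if ∀ u, u < v → e u = 0 then coeff (e + Finsupp.single v 1) p else 0 :=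
  coeff_dropFun v p e

/-- The contracting homotopy of the Koszul complex of the polynomial ring. -/
def kcone (z : Finset σ → MvPolynomial σ k) (A : Finset σ) : MvPolynomial σ k :=
  if h : A.Nonempty then dropBelow (A.min' h) (z (A.erase (A.min' h))) else 0

theorem kcone_supp {p : ℕ} {z : Finset σ → MvPolynomial σ k} (hz : ∀ A, A.card ≠ p → z A = 0) {A : Finset σ}
    (hA : A.card ≠ p + 1) : kcone z A = 0 := by
  unfold kcone
  split_ifs with h
  · have := h.card_pos
    rw [hz _ (by rw [Finset.card_erase_of_mem (A.min'_mem h)]; omega), map_zero]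
  · rfl

theorem coeff_X_smul (u : σ) (q : MvPolynomial σ k) (e : σ →₀ ℕ) :
    coeff e ((X u : MvPolynomial σ k) • q) = if e u = 0 then 0 else coeff (e - Finsupp.single u 1) q := by
  classical
  rw [smul_eq_mul, coeff_X_mul']
  by_cases h : e u = 0 <;> simp [h]

/-- Koszul cycles of the polynomial ring without constant term are boundaries. -/
theorem kd_kcone {z : Finset σ → MvPolynomial σ k} (hz : kd (k := k) z = 0) (h0 : constantCoeff (z ∅) = 0) :
    kd (k := k) (kcone z) = z := by
  classical
  funext A
  refine MvPolynomial.ext _ _ fun e => ?_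
  have hc : ∀ (w : Finset σ → MvPolynomial σ k) (B : Finset σ) (e : σ →₀ ℕ),
      coeff e (kd (k := k) w B) =
        ∑ u ∈ Bᶜ, ksgn u B • (if e u = 0 then 0 else coeff (e - Finsupp.single u 1) (w (insert u B))) :=
    fun w B e => by
      rw [kd, coeff_sum]
      refine Finset.sum_congr rfl fun u _ => ?_
      rw [← coeff_X_smul, ← lcoeff_apply, map_zsmul, lcoeff_apply]
  rw [hc]
  rcases (A ∪ e.support).eq_empty_or_nonempty with hemp | hne
  · obtain ⟨rfl, he⟩ := Finset.union_eq_empty.1 hemp
    rw [Finsupp.support_eq_empty] at he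
    subst he
    rw [Finset.sum_eq_zero fun u _ => by simp]
    exact h0.symm
  let v := (A ∪ e.support).min' hne
  have hvA : ∀ a ∈ A, v ≤ a := fun a ha => Finset.min'_le _ _ (Finset.mem_union_left _ ha)
  have hve : ∀ a, a < v → e a = 0 := fun a ha => by
    by_contra h
    exact absurd (Finset.min'_le _ _ (Finset.mem_union_right A (Finsupp.mem_support_iff.2 h))) ha.not_ge
  by_cases hv : v ∈ A
  · have hmin : ∀ u, u ∉ A → e u ≠ 0 → ∀ (h : (insert u A).Nonempty), (insert u A).min' h = v := fun u _ hu h => by
      refine le_antisymm (Finset.min'_le _ _ (Finset.mem_insert_of_mem hv)) (Finset.le_min' _ _ _ fun a ha => ?_)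
      rcases Finset.mem_insert.1 ha with rfl | ha
      · exact Finset.min'_le _ _ (Finset.mem_union_right A (Finsupp.mem_support_iff.2 hu))
      · exact hvA a ha
    have hzero := congrArg (coeff (e + Finsupp.single v 1)) (congrFun hz (A.erase v))
    rw [hc, Pi.zero_apply, coeff_zero, ← Finset.add_sum_erase _ _ (Finset.mem_compl.2 (Finset.notMem_erase v A)),
      ksgn_of_min (fun a ha => hvA a (Finset.mem_of_mem_erase ha)), one_smul, Finset.insert_erase hv,
      if_neg (by simp), add_tsub_cancel_right, ← Finset.compl_insert, Finset.insert_erase hv,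
      add_eq_zero_iff_eq_neg] at hzero
    rw [hzero, ← Finset.sum_neg_distrib]
    refine Finset.sum_congr rfl fun u hu => ?_
    rw [Finset.mem_compl] at hu
    have huv : u ≠ v := fun h => hu (h ▸ hv)
    by_cases he : e u = 0
    · rw [if_pos he, if_pos (by simp [he, huv]), smul_zero, smul_zero, neg_zero]
    · have hlt : v < u := lt_of_le_of_ne (Finset.min'_le _ _ (Finset.mem_union_right A (Finsupp.mem_support_iff.2 he))) huv.symm
      have hins : (insert u A).Nonempty := Finset.insert_nonempty u A
      rw [if_neg he, if_neg (by simp [he]), kcone, dif_pos hins, hmin u hu he hins, coeff_dropBelow, if_pos ?_,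
        Finset.erase_insert_of_ne huv,
        show e - Finsupp.single u 1 + Finsupp.single v 1 = e + Finsupp.single v 1 - Finsupp.single u 1 by
          ext a
          by_cases hau : a = u
          · subst hau; simp [huv]
          · simp [Finsupp.single_eq_of_ne hau],
        ← neg_smul]
      · congr 1
        conv_lhs => rw [← Finset.insert_erase hv]
        rw [ksgn_insert (Finset.notMem_erase v A), if_pos hlt, neg_one_mul]
      · intro a ha
        simp [hve a ha]
  · have hev : e v ≠ 0 := by
      rcases Finset.mem_union.1 ((A ∪ e.support).min'_mem hne) with h | h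
      · exact absurd h hv
      · exact Finsupp.mem_support_iff.1 h
    rw [Finset.sum_eq_single v]
    · have hins : (insert v A).Nonempty := Finset.insert_nonempty v A
      have hm : (insert v A).min' hins = v :=
        le_antisymm (Finset.min'_le _ _ (Finset.mem_insert_self v A)) (Finset.le_min' _ _ _ fun a ha => by
          rcases Finset.mem_insert.1 ha with rfl | ha
          · exact le_rfl
          · exact hvA a ha)
      rw [if_neg hev, ksgn_of_min hvA, one_smul, kcone, dif_pos hins, hm, Finset.erase_insert hv, coeff_dropBelow,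
        if_pos fun a ha => by simp [hve a ha],
        show e - Finsupp.single v 1 + Finsupp.single v 1 = e by
          ext a
          by_cases hav : a = v
          · subst hav; simp; omega
          · simp [Finsupp.single_eq_of_ne hav]]
    · intro u hu huv
      rw [Finset.mem_compl] at hu
      by_cases he : e u = 0
      · rw [if_pos he, smul_zero]
      have hins : (insert u A).Nonempty := Finset.insert_nonempty u A
      have hlt : v < (insert u A).min' hins := by
        rcases Finset.mem_insert.1 ((insert u A).min'_mem hins) with h | h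
        · rw [h]
          exact lt_of_le_of_ne (Finset.min'_le _ _ (Finset.mem_union_right A (Finsupp.mem_support_iff.2 he))) huv.symm
        · exact lt_of_le_of_ne (hvA _ h) fun e' => hv (e' ▸ h)
      rw [if_neg he, kcone, dif_pos hins, coeff_dropBelow,
        if_neg fun h => hev (by simpa [Finsupp.single_eq_of_ne huv.symm] using h v hlt), smul_zero]
    · intro h
      exact absurd (Finset.mem_compl.2 hv) h

end Exact

end Groth.Agent.GrSyzLib
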