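import Groth.Agent.Lib.GrSyz.KoszulCycles
import Groth.Agent.Lib.GrSyz.Compare
import Groth.Agent.Lib.GrLC21.Basic
import Mathlib.Data.Fin.Tuple.Basic

/-!
# Vanishing of Betti numbers through iterated linear syzygies
-/

universe u

noncomputable section

namespace Groth.Agent.GrSyzLib

open MvPolynomial GrSyz

variable {k : Type u} [Field k] {r : ℕ}
  {M : Type u} [AddCommGroup M] [Module k M] [Module (MvPolynomial (Fin (r + 1)) k) M]
  [IsScalarTower k (MvPolynomial (Fin (r + 1)) k) M]

/-- The iterated modules of linear syzygies. -/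
def linSyz (k : Type u) [Field k] (r : ℕ) (M : Type u) [AddCommGroup M] [Module (MvPolynomial (Fin (r + 1)) k) M]
    (i : ℕ) : Submodule (MvPolynomial (Fin (r + 1)) k) ((Fin i → Fin (r + 1)) → M) where
  carrier := {m | ∀ (s : Fin i) (c : Fin i → Fin (r + 1)),
    ∑ v : Fin (r + 1), (X v : MvPolynomial (Fin (r + 1)) k) • m (Function.update c s v) = 0}
  zero_mem' := fun s c => by simp
  add_mem' := fun {a b} ha hb s c => by simp [smul_add, Finset.sum_add_distrib, ha s c, hb s c]
  smul_mem' := fun f a ha s c => by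
    simp only [Pi.smul_apply]
    rw [Finset.sum_congr rfl fun v _ => smul_comm _ f _, ← Finset.smul_sum, ha s c, smul_zero]

theorem mem_linSyz {i : ℕ} {m : (Fin i → Fin (r + 1)) → M} :
    m ∈ linSyz k r M i ↔ ∀ (s : Fin i) (c : Fin i → Fin (r + 1)),
      ∑ v : Fin (r + 1), (X v : MvPolynomial (Fin (r + 1)) k) • m (Function.update c s v) = 0 := Iff.rfl

omit [Module k M] [IsScalarTower k (MvPolynomial (Fin (r + 1)) k) M] in
/-- An element of the variables times a submodule is a linear combination of the variables. -/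
theorem exists_sum_X_smul {W : Type u} [AddCommGroup W] [Module (MvPolynomial (Fin (r + 1)) k) W]
    (P : Submodule (MvPolynomial (Fin (r + 1)) k) W) {m : W}
    (hm : m ∈ Ideal.span (Set.range (X : Fin (r + 1) → MvPolynomial (Fin (r + 1)) k)) • P) :
    ∃ Y : Fin (r + 1) → W, (∀ v, Y v ∈ P) ∧ m = ∑ v, (X v : MvPolynomial (Fin (r + 1)) k) • Y v := by
  classical
  refine Submodule.smul_induction_on hm (fun f hf w hw => ?_) ?_
  · refine Submodule.span_induction (p := fun f _ => ∀ w ∈ P, ∃ Y : Fin (r + 1) → W, (∀ v, Y v ∈ P) ∧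
      f • w = ∑ v, (X v : MvPolynomial (Fin (r + 1)) k) • Y v) ?_ ?_ ?_ ?_ hf w hw
    · rintro _ ⟨u, rfl⟩ w hw
      refine ⟨Pi.single u w, fun v => ?_, ?_⟩
      · rcases eq_or_ne v u with rfl | h
        · rwa [Pi.single_eq_same]
        · rw [Pi.single_eq_of_ne h]; exact zero_mem _
      · rw [Finset.sum_eq_single u (fun v _ h => by rw [Pi.single_eq_of_ne h, smul_zero])
          (fun h => absurd (Finset.mem_univ u) h), Pi.single_eq_same]
    · exact fun w _ => ⟨0, fun _ => zero_mem _, by simp⟩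
    · intro f g _ _ hf hg w hw
      obtain ⟨Y, hY, e⟩ := hf w hw
      obtain ⟨Z, hZ, e'⟩ := hg w hw
      exact ⟨Y + Z, fun v => add_mem (hY v) (hZ v), by
        simp [add_smul, e, e', smul_add, Finset.sum_add_distrib]⟩
    · intro a f _ hf w hw
      obtain ⟨Y, hY, e⟩ := hf (a • w) (P.smul_mem a hw)
      exact ⟨Y, hY, by rw [smul_eq_mul, mul_comm, mul_smul, e]⟩
  · rintro x y ⟨Y, hY, rfl⟩ ⟨Z, hZ, rfl⟩
    exact ⟨Y + Z, fun v => add_mem (hY v) (hZ v), by simp [smul_add, Finset.sum_add_distrib]⟩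

theorem mem_span_X_of_pos {l : ℤ} (hl : 0 < l) {f : MvPolynomial (Fin (r + 1)) k}
    (hf : f ∈ stdGr k (Fin (r + 1)) l) :
    f ∈ Ideal.span (Set.range (X : Fin (r + 1) → MvPolynomial (Fin (r + 1)) k)) := by
  rw [← Set.image_univ, mem_ideal_span_X_image]
  intro e he
  by_contra h
  push Not at h
  have h0 : e = 0 := Finsupp.ext fun v => h v (Set.mem_univ v)
  have := (mem_stdGr_iff k (Fin (r + 1)) l f).1 hf (MvPolynomial.mem_support_iff.1 he)
  rw [h0, map_zero] at this
  omega

theorem X_mem_stdGr (v : Fin (r + 1)) : (X v : MvPolynomial (Fin (r + 1)) k) ∈ stdGr k (Fin (r + 1)) 1 := by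
  classical
  rw [mem_stdGr_iff]
  intro d hd
  rw [coeff_X'] at hd
  split_ifs at hd with h
  · subst h
    simp [weight_one]
  · exact absurd rfl hd

variable {ℛ : ℤ → Submodule k M} [DirectSum.Decomposition ℛ] [SetLike.GradedSMul (stdGr k (Fin (r + 1))) ℛ]

variable (ℛ) in
/-- The components of a family of module elements. -/
def comps (i : ℕ) (d : ℤ) : ((Fin i → Fin (r + 1)) → M) →+ ((Fin i → Fin (r + 1)) → M) :=
  AddMonoidHom.mk' (fun m c => GrLC21.proj ℛ d (m c)) fun m m' => funext fun c => map_add _ _ _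

theorem proj_X_smul (v : Fin (r + 1)) (d : ℤ) (x : M) :
    GrLC21.proj ℛ d ((X v : MvPolynomial (Fin (r + 1)) k) • x) =
      (X v : MvPolynomial (Fin (r + 1)) k) • GrLC21.proj ℛ (d - 1) x :=
  GrLC21.proj_smul (stdGr k (Fin (r + 1))) ℛ (X_mem_stdGr v) d x

theorem comps_mem_linSyz {i : ℕ} {d : ℤ} {m : (Fin i → Fin (r + 1)) → M} (hm : m ∈ linSyz k r M i) :
    comps ℛ i d m ∈ linSyz k r M i := fun s c => by
  have h := congrArg (GrLC21.proj ℛ (d + 1)) (hm s c)
  rw [map_zero, map_sum] at h
  refine (Finset.sum_congr rfl fun v _ => ?_).trans h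
  rw [proj_X_smul, add_sub_cancel_right]
  rfl

/-- A family in the top of the generation range is a combination of the variables. -/
theorem exists_decomp_of_gen {i : ℕ} {d : ℤ} {m : (Fin i → Fin (r + 1)) → M}
    (hm : m ∈ Submodule.span (MvPolynomial (Fin (r + 1)) k)
      {m' | m' ∈ linSyz k r M i ∧ ∃ e : ℤ, e < d ∧ ∀ c, m' c ∈ ℛ e})
    (hd : ∀ c, m c ∈ ℛ d) :
    ∃ Y : Fin (r + 1) → (Fin i → Fin (r + 1)) → M, (∀ v, Y v ∈ linSyz k r M i) ∧ (∀ v c, Y v c ∈ ℛ (d - 1)) ∧
      m = ∑ v, (X v : MvPolynomial (Fin (r + 1)) k) • Y v := by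
  classical
  let I := Ideal.span (Set.range (X : Fin (r + 1) → MvPolynomial (Fin (r + 1)) k))
  have key : ∀ f : MvPolynomial (Fin (r + 1)) k, comps ℛ i d (f • m) ∈ I • linSyz k r M i := by
    refine Submodule.span_induction
      (p := fun m _ => ∀ f : MvPolynomial (Fin (r + 1)) k, comps ℛ i d (f • m) ∈ I • linSyz k r M i) ?_ ?_ ?_ ?_ hm
    · rintro w ⟨hw, e, he, hwe⟩ f
      refine GrLC21.spans_induction (GrLC21.spans_of_decomposition (stdGr k (Fin (r + 1)))) f ?_ ?_ fun l g hg => ?_
      · rw [zero_smul, map_zero]; exact zero_mem _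
      · intro f g hf hg; rw [add_smul, map_add]; exact add_mem hf hg
      · have hc : ∀ c, GrLC21.proj ℛ d (g • w c) = if l + e = d then g • w c else 0 := fun c => by
          have hmem := GrLC21.smul_mem (stdGr k (Fin (r + 1))) ℛ hg (hwe c)
          split_ifs with h
          · exact GrLC21.proj_of_mem ℛ (h ▸ hmem)
          · exact GrLC21.proj_of_mem_ne ℛ hmem h
        by_cases h : l + e = d
        · rw [show comps ℛ i d (g • w) = g • w from funext fun c => (hc c).trans (if_pos h)]
          exact Submodule.smul_mem_smul (mem_span_X_of_pos (by omega) hg) hw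
        · rw [show comps ℛ i d (g • w) = 0 from funext fun c => (hc c).trans (if_neg h)]
          exact zero_mem _
    · intro f; rw [smul_zero, map_zero]; exact zero_mem _
    · intro x y _ _ hx hy f; rw [smul_add, map_add]; exact add_mem (hx f) (hy f)
    · intro a x _ hx f; rw [smul_smul]; exact hx _
  have hmI : m ∈ I • linSyz k r M i := by
    have := key 1
    rwa [one_smul, show comps ℛ i d m = m from funext fun c => GrLC21.proj_of_mem ℛ (hd c)] at this
  obtain ⟨Y, hY, e⟩ := exists_sum_X_smul _ hmI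
  refine ⟨fun v => comps ℛ i (d - 1) (Y v), fun v => comps_mem_linSyz (hY v),
    fun v c => GrLC21.proj_mem ℛ _ _, funext fun c => ?_⟩
  rw [← GrLC21.proj_of_mem ℛ (hd c), e, Finset.sum_apply, Finset.sum_apply, map_sum]
  exact Finset.sum_congr rfl fun v _ => proj_X_smul v d (Y v c)

/-- Prepending a letter. -/
def wordsEquiv (i : ℕ) : (Fin (r + 1) → (Fin i → Fin (r + 1)) → M) ≃ₗ[MvPolynomial (Fin (r + 1)) k]
    ((Fin (i + 1) → Fin (r + 1)) → M) where
  toFun y c := y (c 0) (Fin.tail c)
  map_add' _ _ := rfl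
  map_smul' _ _ := rfl
  invFun m v c := m (Fin.cons v c)
  left_inv y := by funext v c; simp
  right_inv m := by funext c; simp [Fin.cons_self_tail]

/-- Summing against the variables. -/
def sumX {W : Type u} [AddCommGroup W] [Module (MvPolynomial (Fin (r + 1)) k) W] :
    (Fin (r + 1) → W) →ₗ[MvPolynomial (Fin (r + 1)) k] W :=
  ∑ v, (X v : MvPolynomial (Fin (r + 1)) k) • LinearMap.proj v

theorem sumX_apply {W : Type u} [AddCommGroup W] [Module (MvPolynomial (Fin (r + 1)) k) W]
    (y : Fin (r + 1) → W) : sumX (k := k) y = ∑ v, (X v : MvPolynomial (Fin (r + 1)) k) • y v := by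
  simp [sumX]

theorem mem_linSyz_succ {i : ℕ} (y : Fin (r + 1) → (Fin i → Fin (r + 1)) → M) :
    wordsEquiv (k := k) i y ∈ linSyz k r M (i + 1) ↔
      (∀ v, y v ∈ linSyz k r M i) ∧ sumX (k := k) y = 0 := by
  constructor
  · intro h
    refine ⟨fun v s c => ?_, funext fun c => ?_⟩
    · have := h s.succ (Fin.cons v c)
      simpa [wordsEquiv, ← Fin.cons_update] using this
    · have := h 0 (Fin.cons 0 c)
      simpa [wordsEquiv, sumX_apply, Fin.update_cons_zero, Finset.sum_apply] using this
  · rintro ⟨h, h0⟩ s c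
    obtain ⟨a, c, rfl⟩ : ∃ a c', c = Fin.cons a c' := ⟨c 0, Fin.tail c, (Fin.cons_self_tail c).symm⟩
    refine Fin.cases ?_ (fun s => ?_) s
    · have := congrFun h0 c
      simpa [wordsEquiv, sumX_apply, Fin.update_cons_zero, Finset.sum_apply] using this
    · simpa [wordsEquiv, ← Fin.cons_update] using h a s c

section Vanish

variable {d : ℤ} {n : ℕ}
  (hgen : ∀ i : ℕ, i ≤ n → ∀ m ∈ linSyz k r M i, m ∈ Submodule.span (MvPolynomial (Fin (r + 1)) k)
    {m' | m' ∈ linSyz k r M i ∧ ∃ e : ℤ, e < d ∧ ∀ c, m' c ∈ ℛ e})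

set_option maxHeartbeats 1000000 in
include hgen in
/-- Koszul cycles of iterated syzygies are boundaries. -/
theorem syz_cycle_isBoundary : ∀ p i : ℕ, p + i ≤ n →
    ∀ z : Finset (Fin (r + 1)) → (Fin i → Fin (r + 1)) → M,
      (∀ A, z A ∈ linSyz k r M i) → (∀ A c, z A c ∈ ℛ d) → (∀ A, A.card ≠ p → z A = 0) →
      kd (k := k) z = 0 →
      ∃ w : Finset (Fin (r + 1)) → (Fin i → Fin (r + 1)) → M, (∀ A, w A ∈ linSyz k r M i) ∧ kd (k := k) w = z := by
  classical
  intro p
  induction p with
  | zero =>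
    intro i hpi z hT hd hsupp hz
    obtain ⟨Y, hY, -, e⟩ := exists_decomp_of_gen (hgen i (by omega) _ (hT ∅)) (hd ∅)
    let η : Fin (r + 1) → Finset (Fin (r + 1)) → (Fin i → Fin (r + 1)) → M :=
      fun v A => if A.card = 0 then Y v else 0
    have hη : ∀ v, kd (k := k) (η v) = 0 := fun v => kd_supp_zero fun A hA => if_neg hA
    refine ⟨∑ v, kh v (η v), fun A => ?_, ?_⟩
    · rw [Finset.sum_apply]
      refine Submodule.sum_mem _ fun v _ => kh_mem _ v (fun B => ?_) A
      show (if B.card = 0 then Y v else 0) ∈ _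
      split_ifs
      exacts [hY v, zero_mem _]
    · rw [kd_sum]
      funext A
      rw [Finset.sum_apply, Finset.sum_congr rfl fun v _ => congrFun (smul_cycle_eq v (hη v)) A]
      by_cases hA : A.card = 0
      · simp only [η, if_pos hA]
        rw [← e, Finset.card_eq_zero.1 hA]
      · simp only [η, if_neg hA, smul_zero, Finset.sum_const_zero]
        exact (hsupp A hA).symm
  | succ p ih =>
    intro i hpi z hT hd hsupp hz
    choose Y hY hYd he using fun A => exists_decomp_of_gen (hgen i (by omega) _ (hT A)) (hd A)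
    let y : Finset (Fin (r + 1)) → Fin (r + 1) → (Fin i → Fin (r + 1)) → M :=
      fun A => if A.card = p + 1 then Y A else 0
    have hyT : ∀ A v, y A v ∈ linSyz k r M i := fun A v => by
      simp only [y]
      split_ifs
      exacts [hY A v, zero_mem _]
    have hyd : ∀ A v c, y A v c ∈ ℛ (d - 1) := fun A v c => by
      simp only [y]
      split_ifs
      exacts [hYd A v c, zero_mem _]
    have hΦy : (fun A => sumX (k := k) (y A)) = z := funext fun A => by
      rw [sumX_apply]
      by_cases hA : A.card = p + 1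
      · simp only [y, if_pos hA]
        exact (he A).symm
      · simp only [y, if_neg hA, Pi.zero_apply, smul_zero, Finset.sum_const_zero]
        exact (hsupp A hA).symm
    let z' : Finset (Fin (r + 1)) → (Fin (i + 1) → Fin (r + 1)) → M := fun A => wordsEquiv (k := k) i (kd (k := k) y A)
    have hz'T : ∀ A, z' A ∈ linSyz k r M (i + 1) := fun A => (mem_linSyz_succ _).2
      ⟨fun v => by
        have e := map_kd (LinearMap.proj v : (Fin (r + 1) → (Fin i → Fin (r + 1)) → M)
          →ₗ[MvPolynomial (Fin (r + 1)) k] _) y A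
        simp only [LinearMap.proj_apply] at e
        rw [e]
        exact kd_mem (linSyz k r M i) (fun B => hyT B v) A, by
        rw [map_kd, hΦy, hz]
        rfl⟩
    have hz'd : ∀ A c, z' A c ∈ ℛ d := fun A c => by
      show kd (k := k) y A (c 0) (Fin.tail c) ∈ ℛ d
      rw [show kd (k := k) y A (c 0) (Fin.tail c) = kd (k := k) (fun B => y B (c 0) (Fin.tail c)) A from
        map_kd (LinearMap.proj (Fin.tail c) ∘ₗ
          (LinearMap.proj (c 0) : (Fin (r + 1) → (Fin i → Fin (r + 1)) → M) →ₗ[MvPolynomial (Fin (r + 1)) k] _)) y A]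
      refine Submodule.sum_mem _ fun u _ => zsmul_mem ?_ _
      have := GrLC21.smul_mem (stdGr k (Fin (r + 1))) ℛ (X_mem_stdGr u) (hyd (insert u A) (c 0) (Fin.tail c))
      rwa [add_sub_cancel] at this
    have hz'supp : ∀ A, A.card ≠ p → z' A = 0 := fun A hA => by
      show wordsEquiv (k := k) i (kd (k := k) y A) = 0
      rw [kd_supp (fun B hB => by simp only [y, if_neg hB]) hA, map_zero]
    have hz'cyc : kd (k := k) z' = 0 := funext fun A => by
      show kd (k := k) (fun B => (wordsEquiv (k := k) i).toLinearMap (kd (k := k) y B)) A = 0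
      rw [← map_kd, congrFun (kd_kd y) A, Pi.zero_apply, map_zero]
    obtain ⟨w, hwT, hw⟩ := ih (i + 1) (by omega) z' hz'T hz'd hz'supp hz'cyc
    let η : Finset (Fin (r + 1)) → Fin (r + 1) → (Fin i → Fin (r + 1)) → M :=
      fun A => y A - (wordsEquiv (k := k) i).symm (w A)
    have hwT' : ∀ A, (∀ v, (wordsEquiv (k := k) i).symm (w A) v ∈ linSyz k r M i) ∧
        sumX (k := k) ((wordsEquiv (k := k) i).symm (w A)) = 0 :=
      fun A => (mem_linSyz_succ _).1 (by rw [LinearEquiv.apply_symm_apply]; exact hwT A)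
    have hη : ∀ v, kd (k := k) (fun A => η A v) = 0 := fun v => funext fun A => by
      have h1 := map_kd (LinearMap.proj v :
        (Fin (r + 1) → (Fin i → Fin (r + 1)) → M) →ₗ[MvPolynomial (Fin (r + 1)) k] _) η A
      refine h1.symm.trans ?_
      have h2 : kd (k := k) η A = 0 := by
        show kd (k := k) (y - fun B => (wordsEquiv (k := k) i).symm.toLinearMap (w B)) A = 0
        rw [kd_sub, Pi.sub_apply, ← map_kd, hw]
        show kd (k := k) y A - (wordsEquiv (k := k) i).symm (z' A) = 0
        rw [LinearEquiv.symm_apply_apply, sub_self]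
      rw [h2, map_zero]
      rfl
    refine ⟨∑ v, kh v (fun A => η A v), fun A => ?_, ?_⟩
    · rw [Finset.sum_apply]
      exact Submodule.sum_mem _ fun v _ => kh_mem _ v (fun B => sub_mem (hyT B v) ((hwT' B).1 v)) A
    · rw [kd_sum]
      funext A
      rw [Finset.sum_apply, Finset.sum_congr rfl fun v _ => congrFun (smul_cycle_eq v (hη v)) A]
      rw [← sumX_apply]
      show sumX (k := k) (y A - (wordsEquiv (k := k) i).symm (w A)) = z A
      rw [map_sub, (hwT' A).2, sub_zero]
      exact congrFun hΦy A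

include hgen in
/-- Koszul cycles of the module are boundaries. -/
theorem cycle_isBoundary (z : Finset (Fin (r + 1)) → M) (hd : ∀ A, z A ∈ ℛ d)
    (hsupp : ∀ A, A.card ≠ n → z A = 0) (hz : kd (k := k) z = 0) : ∃ w, kd (k := k) w = z := by
  obtain ⟨w, -, hw⟩ := syz_cycle_isBoundary hgen n 0 le_rfl (fun A _ => z A) (fun A s => s.elim0)
    (fun A _ => hd A) (fun A hA => funext fun _ => hsupp A hA) (funext fun A => funext fun c => by
      refine Eq.trans ?_ (congrFun hz A)
      exact map_kd (LinearMap.proj c : ((Fin 0 → Fin (r + 1)) → M) →ₗ[MvPolynomial (Fin (r + 1)) k] M) (fun B (_ : Fin 0 → Fin (r + 1)) => z B) A)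
  refine ⟨fun A => w A Fin.elim0, funext fun A => ?_⟩
  exact (map_kd (LinearMap.proj (Fin.elim0 : Fin 0 → Fin (r + 1))) w A).symm.trans
    (congrFun (congrFun hw A) Fin.elim0)

end Vanish

variable (F : FreeRes (stdGr k (Fin (r + 1))) ℛ)

theorem dropBelow_mem (v : Fin (r + 1)) {e : ℤ} {f : MvPolynomial (Fin (r + 1)) k}
    (hf : f ∈ stdGr k (Fin (r + 1)) e) : dropBelow v f ∈ stdGr k (Fin (r + 1)) (e - 1) := by
  rw [mem_stdGr_iff]
  intro a ha
  rw [coeff_dropBelow] at ha
  split_ifs at ha
  · have := (mem_stdGr_iff k (Fin (r + 1)) e f).1 hf ha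
    rw [map_add, Finsupp.weight_single, one_smul] at this
    omega
  · exact absurd rfl ha

theorem kcone_mem {e : ℤ} {z : Finset (Fin (r + 1)) → MvPolynomial (Fin (r + 1)) k}
    (hz : ∀ A, z A ∈ stdGr k (Fin (r + 1)) e) (A) : kcone z A ∈ stdGr k (Fin (r + 1)) (e - 1) := by
  unfold kcone
  split_ifs with h
  · exact dropBelow_mem _ (hz _)
  · exact zero_mem _

variable {j : ℤ} {p : ℕ}
  (hkos : ∀ z : Finset (Fin (r + 1)) → M, (∀ A, z A ∈ ℛ (j - p)) → (∀ A, A.card ≠ p → z A = 0) →
    kd (k := k) z = 0 → ∃ w, kd (k := k) w = z)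
  (hF : F.IsMinimal (irrel (stdGr k (Fin (r + 1)))).toIdeal)

/-- The cycle condition of the zigzag. -/
def IsCyc : (i : ℕ) → (Finset (Fin (r + 1)) → Fin (F.rk i) → MvPolynomial (Fin (r + 1)) k) → Prop
  | 0, c => kd (k := k) (fun A => F.augLin (c A)) = 0
  | l + 1, c => kd (k := k) (fun A => F.dLin l (c A)) = 0

set_option maxHeartbeats 1000000 in
include hkos hF in
theorem zigzag : ∀ i q : ℕ, i + q = p →
    ∀ c : Finset (Fin (r + 1)) → Fin (F.rk i) → MvPolynomial (Fin (r + 1)) k,
      (∀ A, c A ∈ freeGr (F.deg i) (j - q)) → (∀ A, A.card ≠ q → c A = 0) →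
      IsCyc F i c →
      ∃ (u : Finset (Fin (r + 1)) → Fin (F.rk i) → MvPolynomial (Fin (r + 1)) k)
        (u' : Finset (Fin (r + 1)) → Fin (F.rk (i + 1)) → MvPolynomial (Fin (r + 1)) k),
        ∀ A, c A = kd (k := k) u A + F.dLin i (u' A) := by
  intro i
  induction i with
  | zero =>
    intro q hq c hc hsupp hcyc
    obtain rfl : q = p := by omega
    obtain ⟨w, hw⟩ := hkos (fun A => F.augLin (c A)) (fun A => linearCombination_mem F.aug_mem (hc A))
      (fun A hA => by simp only [hsupp A hA, map_zero]) hcyc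
    choose w₀ hw₀ using fun A => F.aug_surjective (w A)
    have : ∀ A, ∃ v, F.dLin 0 v = c A - kd (k := k) w₀ A := fun A => by
      refine (show c A - kd (k := k) w₀ A ∈ LinearMap.range (F.dLin 0) from ?_)
      rw [← ker_augLin, LinearMap.mem_ker, map_sub, map_kd, show (fun B => F.augLin (w₀ B)) = w from funext hw₀, hw,
        sub_self]
    choose u' hu' using this
    exact ⟨w₀, u', fun A => by rw [hu' A, add_sub_cancel]⟩
  | succ l ih =>
    intro q hq c hc hsupp hcyc
    let z : Finset (Fin (r + 1)) → Fin (F.rk l) → MvPolynomial (Fin (r + 1)) k := fun A => F.dLin l (c A)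
    let c' : Finset (Fin (r + 1)) → Fin (F.rk l) → MvPolynomial (Fin (r + 1)) k :=
      fun A x => kcone (fun B => z B x) A
    have hzx : ∀ x, kd (k := k) (fun B => z B x) = 0 := fun x => funext fun A =>
      (map_kd (LinearMap.proj x :
        (Fin (F.rk l) → MvPolynomial (Fin (r + 1)) k) →ₗ[MvPolynomial (Fin (r + 1)) k] _) z A).symm.trans
        ((congrArg _ (congrFun hcyc A)).trans (map_zero _))
    have hkc : ∀ A, kd (k := k) c' A = z A := fun A => funext fun x => by
      refine (map_kd (LinearMap.proj x :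
        (Fin (F.rk l) → MvPolynomial (Fin (r + 1)) k) →ₗ[MvPolynomial (Fin (r + 1)) k] _) c' A).trans ?_
      exact congrFun (kd_kcone (hzx x)
        (constantCoeff_eq_zero_of_mem_irrel (dLin_apply_mem hF l (c ∅) x))) A
    have hzmem : ∀ A, z A ∈ freeGr (F.deg l) (j - q) := fun A =>
      map_mem_of_basis (dLin_basis_mem F l) (hc A)
    obtain ⟨u, u', hu⟩ := ih (q + 1) (by omega) c'
      (fun A x => by
        have := kcone_mem (z := fun B => z B x) (fun B => hzmem B x) A
        rwa [show j - (q : ℤ) - F.deg l x - 1 = j - ((q + 1 : ℕ) : ℤ) - F.deg l x by push_cast; ring] at this)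
      (fun A hA => funext fun x => kcone_supp (fun B hB => by
        show F.dLin l (c B) x = 0
        rw [hsupp B hB, map_zero]
        rfl) hA)
      (by
        cases l with
        | zero =>
          funext A
          show kd (k := k) (fun B => F.augLin (c' B)) A = 0
          rw [← map_kd, hkc]
          exact augLin_dLin F _
        | succ l' =>
          funext A
          show kd (k := k) (fun B => F.dLin l' (c' B)) A = 0
          rw [← map_kd, hkc]
          exact dLin_dLin F l' _)
    have : ∀ A, ∃ v, F.dLin (l + 1) v = c A - kd (k := k) u' A := fun A => by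
      refine (show c A - kd (k := k) u' A ∈ LinearMap.range (F.dLin (l + 1)) from ?_)
      rw [← ker_dLin, LinearMap.mem_ker, map_sub, map_kd, sub_eq_zero]
      show z A = _
      rw [← hkc A, show c' = kd (k := k) u + fun B => F.dLin l (u' B) from funext hu, kd_add, Pi.add_apply,
        congrFun (kd_kd u) A, Pi.zero_apply, zero_add]
    choose v hv using this
    exact ⟨u', v, fun A => by rw [hv A, add_sub_cancel]⟩

include hkos hF in
/-- Exactness of the Koszul complex in one bidegree kills the Betti number. -/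
theorem betti_eq_zero_of_koszul : ∀ b : Fin (F.rk p), F.deg p b ≠ j := by
  classical
  intro b hb
  let c : Finset (Fin (r + 1)) → Fin (F.rk p) → MvPolynomial (Fin (r + 1)) k :=
    fun A => if A.card = 0 then Pi.single b 1 else 0
  have hc0 : ∀ A, A.card ≠ 0 → c A = 0 := fun A hA => if_neg hA
  obtain ⟨u, u', hu⟩ := zigzag F hkos hF p 0 rfl c (fun A => by
      show (if A.card = 0 then (Pi.single b 1 : Fin (F.rk p) → MvPolynomial (Fin (r + 1)) k) else 0) ∈ _
      split_ifs
      · rw [Nat.cast_zero, sub_zero, ← hb]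
        exact basis_mem_freeGr b
      · exact zero_mem _) hc0 (by
      cases p with
      | zero => exact kd_supp_zero fun A hA => by simp only [hc0 A hA, map_zero]
      | succ l => exact kd_supp_zero fun A hA => by simp only [hc0 A hA, map_zero])
  have h := congrArg constantCoeff (congrFun (hu ∅) b)
  rw [Pi.add_apply, map_add, constantCoeff_eq_zero_of_mem_irrel (dLin_apply_mem hF p (u' ∅) b), add_zero] at h
  simp only [c, Finset.card_empty, ↓reduceIte, Pi.single_eq_same, map_one] at h
  refine one_ne_zero (α := k) (h.trans ?_)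
  rw [kd, Finset.sum_apply, map_sum]
  refine Finset.sum_eq_zero fun w _ => ?_
  rw [Pi.smul_apply, map_zsmul, Pi.smul_apply, smul_eq_mul, map_mul, constantCoeff_X, zero_mul, smul_zero]

end Groth.Agent.GrSyzLib
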